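import Mathlib
import Cfsg.Agent.Lib.Helper54.UniqueSubgroup

/-!
A `p`-group with a faithful linear action on a space of dimension `d` over a finite field with `q`
elements, `p` not the characteristic, such that `p ∤ q^j - 1` for `0 < j < e` and `d < 2e`, is cyclic
(`p` odd).
-/

set_option autoImplicit false

namespace Cfsg.Agent.Lib.Helper36.LinCyc

open Module

variable {K : Type*} [Field K] [Fintype K] {U : Type*} [AddCommGroup U] [Module K U]
  [FiniteDimensional K U] {P : Type*} [Group P]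

/-- the common fixed space of a set of group elements -/
def fixQ (ρ : P →* (U →ₗ[K] U)) (S : Set P) : Submodule K U where
  carrier := {u | ∀ x ∈ S, ρ x u = u}
  add_mem' := by
    intro a b ha hb x hx
    simp only [Set.mem_ofPred_eq] at ha hb
    rw [map_add, ha x hx, hb x hx]
  zero_mem' := by intro x _; simp
  smul_mem' := by
    intro c a ha x hx
    simp only [Set.mem_ofPred_eq] at ha
    rw [map_smul, ha x hx]

theorem mem_fixQ {ρ : P →* (U →ₗ[K] U)} {S : Set P} {u : U} :
    u ∈ fixQ ρ S ↔ ∀ x ∈ S, ρ x u = u := Iff.rfl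

theorem fixQ_anti {ρ : P →* (U →ₗ[K] U)} {S T : Set P} (h : S ⊆ T) : fixQ ρ T ≤ fixQ ρ S :=
  fun _ hu x hx => hu x (h hx)

/-- fixed by the generators, fixed by the closure -/
theorem fix_closure {ρ : P →* (U →ₗ[K] U)} {S : Set P} {u : U} (hu : u ∈ fixQ ρ S) :
    ∀ g ∈ Subgroup.closure S, ρ g u = u := by
  intro g hg
  induction hg using Subgroup.closure_induction with
  | mem x hx => exact hu x hx
  | one => simp
  | mul x y _ _ hx hy => rw [map_mul, Module.End.mul_apply, hy, hx]
  | inv x _ hx =>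
    have h1 : ρ x⁻¹ (ρ x u) = u := by
      rw [← Module.End.mul_apply, ← map_mul, inv_mul_cancel, map_one]; rfl
    rw [hx] at h1; exact h1

/-- the counting lemma -/
theorem card_modEq [Finite P] {p : ℕ} [Fact p.Prime] (hP : IsPGroup p P)
    (ρ : P →* (U →ₗ[K] U)) (S : Set P) :
    Fintype.card K ^ finrank K U ≡ Fintype.card K ^ finrank K (fixQ ρ S) [MOD p] := by
  classical
  haveI : Finite U := Module.finite_of_finite K
  letI : MulAction P U := MulAction.compHom U ρ
  have hsmul : ∀ (g : P) (u : U), g • u = ρ g u := fun g u => rfl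
  have hQ : IsPGroup p (Subgroup.closure S) := hP.to_subgroup _
  have h1 := hQ.card_modEq_card_fixedPoints U
  have h2 : (MulAction.fixedPoints (Subgroup.closure S) U) = (fixQ ρ S : Set U) := by
    ext u
    constructor
    · intro hu x hx
      have := hu ⟨x, Subgroup.subset_closure hx⟩
      exact this
    · intro hu g
      exact fix_closure hu g.1 g.2
  rw [h2] at h1
  have h3 : Nat.card U = Fintype.card K ^ finrank K U := by
    rw [Module.natCard_eq_pow_finrank (K := K), Nat.card_eq_fintype_card]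
  have h4 : Nat.card (fixQ ρ S : Set U) = Fintype.card K ^ finrank K (fixQ ρ S) := by
    have := Module.natCard_eq_pow_finrank (K := K) (V := fixQ ρ S)
    rw [Nat.card_eq_fintype_card (α := K)] at this
    exact this
  rw [h3, h4] at h1
  exact h1

variable [Finite P] {p e : ℕ} [Fact p.Prime]

/-- from `q^a ≡ q^b` with `b ≤ a` and `a - b < e`, get `a = b` -/
theorem eq_of_modEq (hpq : ¬ p ∣ Fintype.card K)
    (he : ∀ j, 0 < j → j < e → ¬ p ∣ Fintype.card K ^ j - 1) {a b : ℕ} (hba : b ≤ a)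
    (hlt : a - b < e) (h : Fintype.card K ^ a ≡ Fintype.card K ^ b [MOD p]) : a = b := by
  by_contra hne
  have hpos : 0 < a - b := by omega
  have hp : p.Prime := Fact.out
  have hcop : p.gcd (Fintype.card K ^ b) = 1 :=
    Nat.Coprime.pow_right _ ((Nat.Prime.coprime_iff_not_dvd hp).2 hpq)
  have h1 : Fintype.card K ^ b * Fintype.card K ^ (a - b) ≡ Fintype.card K ^ b * 1 [MOD p] := by
    rw [← pow_add, mul_one, Nat.add_sub_cancel' hba]; exact h
  have h2 := Nat.ModEq.cancel_left_of_coprime hcop h1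
  have h3 : p ∣ Fintype.card K ^ (a - b) - 1 :=
    (Nat.modEq_iff_dvd' (Nat.one_le_pow _ _ Fintype.card_pos)).1 h2.symm
  exact he _ hpos hlt h3

/-- a non-identity element has a small fixed space -/
theorem finrank_fix_lt (hP : IsPGroup p P) (ρ : P →* (U →ₗ[K] U)) (hρ : Function.Injective ρ)
    (hpq : ¬ p ∣ Fintype.card K) (he : ∀ j, 0 < j → j < e → ¬ p ∣ Fintype.card K ^ j - 1)
    (hd : finrank K U < 2 * e) {a : P} (ha : a ≠ 1) : finrank K (fixQ ρ {a}) < e := by
  by_contra hcon
  have hle : finrank K (fixQ ρ {a}) ≤ finrank K U := Submodule.finrank_le _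
  have h1 := card_modEq hP ρ {a}
  have h2 := eq_of_modEq hpq he hle (by omega) h1
  have h3 : fixQ ρ {a} = ⊤ := Submodule.eq_top_of_finrank_eq h2.symm
  apply ha
  apply hρ
  rw [map_one]
  ext u
  have : u ∈ fixQ ρ {a} := by rw [h3]; trivial
  exact this a rfl

/-- all non-identity elements have the same fixed space -/
theorem fix_le (hP : IsPGroup p P) (ρ : P →* (U →ₗ[K] U)) (hρ : Function.Injective ρ)
    (hpq : ¬ p ∣ Fintype.card K) (he : ∀ j, 0 < j → j < e → ¬ p ∣ Fintype.card K ^ j - 1)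
    (hd : finrank K U < 2 * e) {a : P} (ha : a ≠ 1) (b : P) : fixQ ρ {a} ≤ fixQ ρ {b} := by
  have hlt := finrank_fix_lt hP ρ hρ hpq he hd ha
  have hsub : fixQ ρ {a, b} ≤ fixQ ρ {a} := fixQ_anti (by simp)
  have hle : finrank K (fixQ ρ {a, b}) ≤ finrank K (fixQ ρ {a}) := Submodule.finrank_mono hsub
  have h1 := card_modEq hP ρ {a}
  have h2 := card_modEq hP ρ {a, b}
  have h3 := eq_of_modEq hpq he hle (by omega) (h1.symm.trans h2)
  have h4 : fixQ ρ {a, b} = fixQ ρ {a} := Submodule.eq_of_le_of_finrank_eq hsub h3.symm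
  rw [← h4]
  exact fixQ_anti (by simp)

theorem fix_eq (hP : IsPGroup p P) (ρ : P →* (U →ₗ[K] U)) (hρ : Function.Injective ρ)
    (hpq : ¬ p ∣ Fintype.card K) (he : ∀ j, 0 < j → j < e → ¬ p ∣ Fintype.card K ^ j - 1)
    (hd : finrank K U < 2 * e) {a b : P} (ha : a ≠ 1) (hb : b ≠ 1) : fixQ ρ {a} = fixQ ρ {b} :=
  le_antisymm (fix_le hP ρ hρ hpq he hd ha b) (fix_le hP ρ hρ hpq he hd hb a)

/-- the norm of an element of order dividing `p` lands in its fixed space -/
theorem geom_mem (ρ : P →* (U →ₗ[K] U)) {x : P} (hx : x ^ p = 1) (u : U) :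
    (∑ j ∈ Finset.range p, (ρ x) ^ j) u ∈ fixQ ρ {x} := by
  intro y hy
  rw [Set.mem_singleton_iff] at hy
  subst hy
  have h1 : (ρ y - 1) * ∑ j ∈ Finset.range p, (ρ y) ^ j = 0 := by
    rw [mul_geom_sum, ← map_pow, hx, map_one, sub_self]
  have h2 := congrArg (fun f : U →ₗ[K] U => f u) h1
  simp only [Module.End.mul_apply, LinearMap.sub_apply, Module.End.one_apply, LinearMap.zero_apply] at h2
  exact sub_eq_zero.1 h2

omit [Fintype K] [FiniteDimensional K U] in
theorem pow_apply_fix (f : U →ₗ[K] U) {v : U} (h : f v = v) (j : ℕ) : (f ^ j) v = v := by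
  induction j with
  | zero => simp
  | succ n ih => rw [pow_succ, Module.End.mul_apply, h, ih]

omit [Fintype K] [FiniteDimensional K U] [Finite P] [Fact (Nat.Prime p)] in
/-- interchanging the double sum -/
theorem sum_swap (ρ : P →* (U →ₗ[K] U)) {y z : P} (hyz : Commute y z) (u : U) :
    (∑ i ∈ Finset.range p, (∑ j ∈ Finset.range p, (ρ (y * z ^ i)) ^ j) u)
      = ∑ j ∈ Finset.range p, (ρ y ^ j) ((∑ i ∈ Finset.range p, (ρ (z ^ j)) ^ i) u) := by
  simp only [LinearMap.sum_apply, map_sum]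
  rw [Finset.sum_comm]
  apply Finset.sum_congr rfl
  intro j _
  apply Finset.sum_congr rfl
  intro i _
  rw [← map_pow, (hyz.pow_right i).mul_pow, map_mul, Module.End.mul_apply, ← map_pow, ← map_pow,
    ← pow_mul, ← pow_mul, mul_comm i j]

omit [Fintype K] [FiniteDimensional K U] [Finite P] [Fact (Nat.Prime p)] in
/-- the term `j = 0` of the swapped sum -/
theorem term_zero (ρ : P →* (U →ₗ[K] U)) (y z : P) (u : U) :
    (ρ y ^ 0) ((∑ i ∈ Finset.range p, (ρ (z ^ 0)) ^ i) u) = (p : K) • u := by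
  rw [pow_zero, pow_zero, map_one, Module.End.one_apply, LinearMap.sum_apply]
  simp only [one_pow, Module.End.one_apply, Finset.sum_const, Finset.card_range]
  rw [Nat.cast_smul_eq_nsmul]

/-- every element of order `p` lies in the subgroup generated by a central element of order `p` -/
theorem mem_zpowers_central (hP : IsPGroup p P) (ρ : P →* (U →ₗ[K] U)) (hρ : Function.Injective ρ)
    (hpq : ¬ p ∣ Fintype.card K) (hpK : (p : K) ≠ 0)
    (he : ∀ j, 0 < j → j < e → ¬ p ∣ Fintype.card K ^ j - 1)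
    (hd : finrank K U < 2 * e) {z : P} (hzc : ∀ g : P, g * z = z * g) (hz : z ^ p = 1) (hz1 : z ≠ 1)
    {y : P} (hy : y ^ p = 1) : y ∈ Subgroup.zpowers z := by
  classical
  by_contra hyz
  have hy1 : y ≠ 1 := fun h => hyz (h ▸ one_mem _)
  have hfix : ∀ x : P, x ≠ 1 → fixQ ρ {x} = fixQ ρ {z} :=
    fun x hx => fix_eq hP ρ hρ hpq he hd hx hz1
  have hordz : orderOf z = p := orderOf_eq_prime hz hz1
  -- the elements `y z^i` and `z^j`
  have hyzi : ∀ i : ℕ, y * z ^ i ≠ 1 := by
    intro i h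
    apply hyz
    have : y = (z ^ i)⁻¹ := eq_inv_of_mul_eq_one_left h
    rw [this]
    exact inv_mem (pow_mem (Subgroup.mem_zpowers z) i)
  have hcomm : Commute y z := hzc y
  have hyzip : ∀ i : ℕ, (y * z ^ i) ^ p = 1 := by
    intro i
    rw [(hcomm.pow_right i).mul_pow, hy, one_mul, ← pow_mul, mul_comm, pow_mul, hz, one_pow]
  have hzj : ∀ j : ℕ, j ∈ (Finset.range p).erase 0 → z ^ j ≠ 1 := by
    intro j hj h
    rw [Finset.mem_erase, Finset.mem_range] at hj
    have := orderOf_dvd_of_pow_eq_one h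
    rw [hordz] at this
    exact absurd (Nat.le_of_dvd (Nat.pos_of_ne_zero hj.1) this) (by omega)
  have hzjp : ∀ j : ℕ, (z ^ j) ^ p = 1 := by
    intro j; rw [← pow_mul, mul_comm, pow_mul, hz, one_pow]
  -- everything is fixed
  have hall : ∀ u : U, u ∈ fixQ ρ {z} := by
    intro u
    have hT : (∑ i ∈ Finset.range p, (∑ j ∈ Finset.range p, (ρ (y * z ^ i)) ^ j) u)
        ∈ fixQ ρ {z} := by
      apply Submodule.sum_mem
      intro i _
      rw [← hfix _ (hyzi i)]
      exact geom_mem ρ (hyzip i) u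
    rw [sum_swap ρ hcomm u,
      ← Finset.add_sum_erase _ _ (Finset.mem_range.2 (Fact.out : p.Prime).pos)] at hT
    have hrest : (∑ j ∈ (Finset.range p).erase 0,
        (ρ y ^ j) ((∑ i ∈ Finset.range p, (ρ (z ^ j)) ^ i) u)) ∈ fixQ ρ {z} := by
      apply Submodule.sum_mem
      intro j hj
      have h1 : (∑ i ∈ Finset.range p, (ρ (z ^ j)) ^ i) u ∈ fixQ ρ {z} := by
        rw [← hfix _ (hzj j hj)]
        exact geom_mem ρ (hzjp j) u
      have h2 : (∑ i ∈ Finset.range p, (ρ (z ^ j)) ^ i) u ∈ fixQ ρ {y} := by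
        rw [hfix y hy1]; exact h1
      rw [pow_apply_fix (ρ y) (h2 y rfl) j]; exact h1
    have h0 := Submodule.sub_mem _ hT hrest
    rw [add_sub_cancel_right, term_zero] at h0
    have h6 := (fixQ ρ {z}).smul_mem (p : K)⁻¹ h0
    rwa [smul_smul, inv_mul_cancel₀ hpK, one_smul] at h6
  apply hz1
  apply hρ
  rw [map_one]
  ext u
  exact hall u z rfl

/-- the main lemma -/
theorem cyclic_of_faithful (hP : IsPGroup p P) (hp2 : p ≠ 2) (ρ : P →* (U →ₗ[K] U))
    (hρ : Function.Injective ρ) (hpq : ¬ p ∣ Fintype.card K) (hpK : (p : K) ≠ 0)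
    (he : ∀ j, 0 < j → j < e → ¬ p ∣ Fintype.card K ^ j - 1)
    (hd : finrank K U < 2 * e) : IsCyclic P := by
  classical
  by_cases htriv : Subsingleton P
  · infer_instance
  rw [not_subsingleton_iff_nontrivial] at htriv
  haveI := htriv
  -- a central element of order p
  haveI : Nontrivial (Subgroup.center P) := hP.center_nontrivial
  haveI : Fintype (Subgroup.center P) := Fintype.ofFinite _
  have hcp : IsPGroup p (Subgroup.center P) := hP.to_subgroup _
  obtain ⟨n, hn⟩ := IsPGroup.iff_card.1 hcp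
  have hn0 : n ≠ 0 := by
    rintro rfl
    rw [pow_zero] at hn
    have := (Nat.card_eq_one_iff_unique.1 hn).1
    exact not_subsingleton _ this
  have hdvd : p ∣ Fintype.card (Subgroup.center P) := by
    rw [← Nat.card_eq_fintype_card, hn]; exact dvd_pow_self p hn0
  obtain ⟨z, hz⟩ := exists_prime_orderOf_dvd_card p hdvd
  have hzc : ∀ g : P, g * (z : P) = (z : P) * g := fun g => (Subgroup.mem_center_iff.1 z.2 g)
  have hzp : (z : P) ^ p = 1 := by
    have := pow_orderOf_eq_one z
    rw [hz] at this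
    exact_mod_cast congrArg Subtype.val this
  have hz1 : (z : P) ≠ 1 := by
    intro h
    have : z = 1 := Subtype.ext h
    rw [this, orderOf_one] at hz
    exact (Fact.out : p.Prime).one_lt.ne hz
  have hUI : Cfsg.Agent.Lib.Helper54.UniqueSubgroup.UI p P := by
    intro g h hg hh hg1
    have hgz := mem_zpowers_central hP ρ hρ hpq hpK he hd hzc hzp hz1 hg
    have hhz := mem_zpowers_central hP ρ hρ hpq hpK he hd hzc hzp hz1 hh
    have hle : Subgroup.zpowers g ≤ Subgroup.zpowers (z : P) := by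
      rw [Subgroup.zpowers_le]; exact hgz
    have hcard : Nat.card (Subgroup.zpowers (z : P)) ≤ Nat.card (Subgroup.zpowers g) := by
      rw [Nat.card_zpowers, Nat.card_zpowers, orderOf_eq_prime hg hg1, orderOf_eq_prime hzp hz1]
    rw [Subgroup.eq_of_le_of_card_ge hle hcard]
    exact hhz
  exact Cfsg.Agent.Lib.Helper54.UniqueSubgroup.isCyclic_of_odd hp2 _ P rfl hP hUI

end Cfsg.Agent.Lib.Helper36.LinCyc
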