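import Cfsg.Agent.Lib.Helper36.ChevSound
import Cfsg.Agent.Lib.Helper36.LinCyc
import Cfsg.Prelude.Def_ChevWords
import Cfsg.Prelude.Def_ChevG2

/-!
In characteristic 3 the adjoint module of `G₂` has the invariant coordinate subspace spanned by the
short root vectors and `h_{p_1}`. A simple subgroup of a group generated by words in root elements
acts faithfully on it or on the quotient (both of dimension at most 7), hence its `p`-subgroups are
cyclic when `p` is a primitive prime divisor of `q^6 - 1`.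
-/

set_option autoImplicit false

namespace Cfsg.Agent.Lib.Helper36.ReeIdeal

open Cfsg Cfsg.Lie Cfsg.Agent.Lib.Helper36.ChevEngine Cfsg.Agent.Lib.Helper36.ChevSound Module

variable {K : Type*} [Field K]

/-- the coordinates that vanish on the ideal: `h_{p_2}` and the long root vectors -/
def jl : Fin 7 → chevG2.Idx :=
  ![Sum.inl ⟨1, by decide⟩, Sum.inr ⟨0, by decide⟩, Sum.inr ⟨1, by decide⟩, Sum.inr ⟨5, by decide⟩,
    Sum.inr ⟨6, by decide⟩, Sum.inr ⟨10, by decide⟩, Sum.inr ⟨11, by decide⟩]

/-- the other coordinates -/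
def jc : Fin 7 → chevG2.Idx :=
  ![Sum.inl ⟨0, by decide⟩, Sum.inr ⟨2, by decide⟩, Sum.inr ⟨3, by decide⟩, Sum.inr ⟨4, by decide⟩,
    Sum.inr ⟨7, by decide⟩, Sum.inr ⟨8, by decide⟩, Sum.inr ⟨9, by decide⟩]

/-- the codes of the coordinates `jl` -/
def inJ (c : ℕ) : Bool :=
  Nat.beq c 1 || Nat.beq c 2 || Nat.beq c 3 || Nat.beq c 7 || Nat.beq c 8 || Nat.beq c 12 || Nat.beq c 13

theorem code_jl : ∀ k : Fin 7, inJ (code chevG2 (jl k)) = true := by decide

theorem idx_cases (col : chevG2.Idx) :
    (∃ k, col = jl k) ∨ ((∃ k, col = jc k) ∧ inJ (code chevG2 col) = false) := by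
  rcases col with ⟨i, hi⟩ | ⟨s, hs⟩
  · have hi' : i < 2 := hi
    interval_cases i
    · right; exact ⟨⟨0, rfl⟩, rfl⟩
    · left; exact ⟨0, rfl⟩
  · have hs' : s < 12 := hs
    interval_cases s
    · left; exact ⟨1, rfl⟩
    · left; exact ⟨2, rfl⟩
    · right; exact ⟨⟨1, rfl⟩, rfl⟩
    · right; exact ⟨⟨2, rfl⟩, rfl⟩
    · right; exact ⟨⟨3, rfl⟩, rfl⟩
    · left; exact ⟨3, rfl⟩
    · left; exact ⟨4, rfl⟩
    · right; exact ⟨⟨4, rfl⟩, rfl⟩
    · right; exact ⟨⟨5, rfl⟩, rfl⟩
    · right; exact ⟨⟨6, rfl⟩, rfl⟩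
    · left; exact ⟨5, rfl⟩
    · left; exact ⟨6, rfl⟩

/-- the table check: entries of `x_r(t)` in a row of `jl` and a column outside are divisible by 3 -/
def chk : Bool :=
  allBelow (fun r => allBelow (fun c => inJ c ||
    (slowCol chevG2 r c).all (fun e => !inJ e.row || decide (e.coef % 3 = 0))) 14) 12

theorem chk_true : chk = true := by decide +kernel

theorem colVal_zero (h3 : (3 : K) = 0) (t : K) (j : ℕ) (hj : inJ j = true) :
    ∀ l : List Entry, l.all (fun e => !inJ e.row || decide (e.coef % 3 = 0)) = true →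
      colVal t l j = 0 := by
  intro l
  induction l with
  | nil => intro _; rfl
  | cons e es ih =>
    intro h
    rw [List.all_cons, Bool.and_eq_true] at h
    simp only [colVal]
    rw [ih h.2, add_zero]
    split_ifs with hr
    · have h1 := h.1
      rw [hr, hj] at h1
      simp only [Bool.not_true, Bool.false_or, decide_eq_true_eq] at h1
      have h2 : e.coef = 3 * (e.coef / 3) := by omega
      rw [h2]
      push_cast
      rw [h3, zero_mul, zero_mul]
    · rfl

theorem xMat_zero (h3 : (3 : K) = 0) (r : Fin chevG2.nroots) (t : K) (k : Fin 7) (col : chevG2.Idx)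
    (hcol : ∀ k', col ≠ jl k') : chevG2.xMat K r t (jl k) col = 0 := by
  have hc : inJ (code chevG2 col) = false := by
    rcases idx_cases col with ⟨k', hk'⟩ | h
    · exact absurd hk' (hcol k')
    · exact h.2
  have hrow := code_jl k
  rw [xMat_eq]
  have hne : ¬ (code chevG2 col = code chevG2 (jl k)) := by
    intro h; rw [h, hrow] at hc; exact Bool.noConfusion hc
  rw [if_neg hne, zero_add]
  apply colVal_zero h3 t _ hrow
  have h1 := allBelow_true _ _ chk_true r.val r.isLt
  have h2 := allBelow_true _ _ h1 (code chevG2 col) (code_lt chevG2 col)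
  rw [hc, Bool.false_or] at h2
  exact h2

/-- the invariant subspace -/
def I (K : Type*) [Field K] : Submodule K (chevG2.Idx → K) :=
  LinearMap.ker (LinearMap.funLeft K K jl)

theorem mem_I {v : chevG2.Idx → K} : v ∈ I K ↔ ∀ k, v (jl k) = 0 := by
  rw [I, LinearMap.mem_ker]
  constructor
  · intro h k; exact congrFun h k
  · intro h; funext k; exact h k

/-- a matrix leaving `I` invariant -/
def Inv (M : Matrix chevG2.Idx chevG2.Idx K) : Prop := ∀ v ∈ I K, M.mulVec v ∈ I K

theorem inv_of_entries {M : Matrix chevG2.Idx chevG2.Idx K}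
    (h : ∀ k col, (∀ k', col ≠ jl k') → M (jl k) col = 0) : Inv M := by
  intro v hv
  rw [mem_I] at hv ⊢
  intro k
  rw [Matrix.mulVec, dotProduct]
  apply Finset.sum_eq_zero
  intro col _
  by_cases hc : ∃ k', col = jl k'
  · obtain ⟨k', rfl⟩ := hc
    rw [hv k', mul_zero]
  · rw [h k col (fun k' hk' => hc ⟨k', hk'⟩), zero_mul]

theorem inv_one : Inv (1 : Matrix chevG2.Idx chevG2.Idx K) := by
  intro v hv; rwa [Matrix.one_mulVec]

theorem inv_mul {A B : Matrix chevG2.Idx chevG2.Idx K} (hA : Inv A) (hB : Inv B) : Inv (A * B) := by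
  intro v hv
  rw [← Matrix.mulVec_mulVec]
  exact hA _ (hB v hv)

theorem inv_x (h3 : (3 : K) = 0) (r : ℕ) (t : K) : Inv (chevG2.x K r t) := by
  unfold ChevalleyDatum.x
  split_ifs with h
  · exact inv_of_entries (fun k col hcol => xMat_zero h3 ⟨r, h⟩ t k col hcol)
  · exact inv_one

theorem inv_word (h3 : (3 : K) = 0) : ∀ w : List (ℕ × K), Inv (chevG2.wordMat K w) := by
  intro w
  induction w with
  | nil => simpa [ChevalleyDatum.wordMat] using inv_one
  | cons a w ih =>
    have : chevG2.wordMat K (a :: w) = chevG2.x K a.1 a.2 * chevG2.wordMat K w := by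
      simp [ChevalleyDatum.wordMat]
    rw [this]
    exact inv_mul (inv_x h3 _ _) ih

theorem inv_pow {g : GL chevG2.Idx K} (hg : Inv (g : Matrix chevG2.Idx chevG2.Idx K)) :
    ∀ n : ℕ, Inv ((g ^ n : GL chevG2.Idx K) : Matrix chevG2.Idx chevG2.Idx K) := by
  intro n
  induction n with
  | zero => simpa using inv_one
  | succ n ih => rw [pow_succ, Units.val_mul]; exact inv_mul ih hg

theorem inv_gen [Fintype K] (h3 : (3 : K) = 0) (W : Set (List (ℕ × K))) :
    ∀ g ∈ chevG2.genSubgroup K W, Inv (g : Matrix chevG2.Idx chevG2.Idx K) := by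
  classical
  intro g hg
  unfold ChevalleyDatum.genSubgroup at hg
  induction hg using Subgroup.closure_induction with
  | mem x hx =>
    obtain ⟨w, _, hw⟩ := hx
    rw [hw]; exact inv_word h3 w
  | one => simpa using inv_one
  | mul x y _ _ hx hy => rw [Units.val_mul]; exact inv_mul hx hy
  | inv x _ hx =>
    have h1 : x⁻¹ = x ^ (orderOf x - 1) := by
      apply inv_eq_of_mul_eq_one_right
      rw [← pow_succ', Nat.sub_add_cancel (orderOf_pos x), pow_orderOf_eq_one]
    rw [h1]
    exact inv_pow hx _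

/-! ### The two representations -/

/-- the action on the ideal -/
def repI (S : Subgroup (GL chevG2.Idx K))
    (hS : ∀ g ∈ S, Inv (g : Matrix chevG2.Idx chevG2.Idx K)) : S →* (I K →ₗ[K] I K) where
  toFun g := (Matrix.toLin' (g.1 : Matrix chevG2.Idx chevG2.Idx K)).restrict
    (fun v hv => by rw [Matrix.toLin'_apply]; exact hS g.1 g.2 v hv)
  map_one' := by
    ext v
    simp
  map_mul' := by
    intro a b
    ext v
    simp [Matrix.toLin'_mul]

/-- the action on the quotient -/
def repQ (S : Subgroup (GL chevG2.Idx K))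
    (hS : ∀ g ∈ S, Inv (g : Matrix chevG2.Idx chevG2.Idx K)) :
    S →* ((chevG2.Idx → K) ⧸ I K →ₗ[K] (chevG2.Idx → K) ⧸ I K) where
  toFun g := (I K).mapQ (I K) (Matrix.toLin' (g.1 : Matrix chevG2.Idx chevG2.Idx K))
    (fun v hv => by rw [Submodule.mem_comap, Matrix.toLin'_apply]; exact hS g.1 g.2 v hv)
  map_one' := by
    apply Submodule.linearMap_qext
    ext v
    simp
  map_mul' := by
    intro a b
    apply Submodule.linearMap_qext
    ext v
    simp [Matrix.toLin'_mul]

theorem finrank_I_le : finrank K (I K) ≤ 7 := by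
  let f : I K →ₗ[K] (Fin 7 → K) := (LinearMap.funLeft K K jc).comp (I K).subtype
  have hf : Function.Injective f := by
    rw [← LinearMap.ker_eq_bot, LinearMap.ker_eq_bot']
    intro v hv
    apply Subtype.ext
    funext col
    rcases idx_cases col with ⟨k, rfl⟩ | ⟨⟨k, rfl⟩, _⟩
    · exact mem_I.1 v.2 k
    · exact congrFun hv k
  have := LinearMap.finrank_le_finrank_of_injective hf
  simpa using this

theorem finrank_Q_le : finrank K ((chevG2.Idx → K) ⧸ I K) ≤ 7 := by
  have h1 := (LinearMap.funLeft K K jl).quotKerEquivRange.finrank_eq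
  have h2 : finrank K (LinearMap.range (LinearMap.funLeft K K jl)) ≤ finrank K (Fin 7 → K) :=
    Submodule.finrank_le _
  have h3 : finrank K ((chevG2.Idx → K) ⧸ I K)
      = finrank K (LinearMap.range (LinearMap.funLeft K K jl)) := h1
  rw [h3]
  simpa using h2

/-- an element acting trivially on the ideal and on the quotient has cube one -/
theorem cube_eq_one (h3 : (3 : K) = 0) {S : Subgroup (GL chevG2.Idx K)}
    (hS : ∀ g ∈ S, Inv (g : Matrix chevG2.Idx chevG2.Idx K)) (g : S)
    (hI : repI S hS g = 1) (hQ : repQ S hS g = 1) : g ^ 3 = 1 := by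
  have hfixI : ∀ w ∈ I K, (g.1 : Matrix chevG2.Idx chevG2.Idx K).mulVec w = w := by
    intro w hw
    have := congrArg (fun f : I K →ₗ[K] I K => (f ⟨w, hw⟩ : chevG2.Idx → K)) hI
    simpa [repI] using this
  have hQ' : ∀ v, (g.1 : Matrix chevG2.Idx chevG2.Idx K).mulVec v - v ∈ I K := by
    intro v
    have := congrArg (fun f : (chevG2.Idx → K) ⧸ I K →ₗ[K] (chevG2.Idx → K) ⧸ I K =>
      f (Submodule.Quotient.mk v)) hQ
    simp only [repQ, MonoidHom.coe_mk, OneHom.coe_mk, Submodule.mapQ_apply, Matrix.toLin'_apply,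
      Module.End.one_apply] at this
    exact (Submodule.Quotient.eq _).1 this
  have hM3 : ∀ v, ((g.1 : Matrix chevG2.Idx chevG2.Idx K) ^ 3).mulVec v = v := by
    intro v
    have hnI := hQ' v
    have h2 := hfixI _ hnI
    have h1 : (g.1 : Matrix chevG2.Idx chevG2.Idx K).mulVec v
        = v + ((g.1 : Matrix chevG2.Idx chevG2.Idx K).mulVec v - v) := by abel
    generalize (g.1 : Matrix chevG2.Idx chevG2.Idx K).mulVec v - v = n at h1 h2
    rw [pow_succ, pow_succ, pow_one, ← Matrix.mulVec_mulVec, ← Matrix.mulVec_mulVec, h1,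
      Matrix.mulVec_add, h1, h2, Matrix.mulVec_add, Matrix.mulVec_add, h1, h2]
    have : n + n + n = 0 := by
      have : n + n + n = (3 : K) • n := by
        rw [show (3 : K) = 1 + 1 + 1 by norm_num, add_smul, add_smul, one_smul]
      rw [this, h3, zero_smul]
    calc v + n + n + n = v + (n + n + n) := by abel
      _ = v := by rw [this, add_zero]
  apply Subtype.ext
  apply Units.ext
  have h4 : ((g ^ 3 : S) : GL chevG2.Idx K) = (g : GL chevG2.Idx K) ^ 3 := rfl
  rw [h4, Units.val_pow_eq_pow_val]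
  apply Matrix.toLin'.injective
  apply LinearMap.ext
  intro v
  rw [Matrix.toLin'_apply, hM3 v]
  simp

/-- `p`-subgroups of a simple group leaving `I` invariant are cyclic, for a primitive prime divisor `p`
of `q^6 - 1` -/
theorem cyclic_of_simple [Fintype K] (h3 : (3 : K) = 0) (S : Subgroup (GL chevG2.Idx K))
    (hS : ∀ g ∈ S, Inv (g : Matrix chevG2.Idx chevG2.Idx K)) [IsSimpleGroup S]
    (hex : ∃ g : S, g ^ 3 ≠ 1) {p : ℕ} [Fact p.Prime] (hp2 : p ≠ 2)
    (hpq : ¬ p ∣ Fintype.card K) (hpK : (p : K) ≠ 0)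
    (he : ∀ j, 0 < j → j < 6 → ¬ p ∣ Fintype.card K ^ j - 1)
    (P : Subgroup S) (hP : IsPGroup p P) : IsCyclic P := by
  classical
  have hkI := (repI S hS).normal_ker
  have hkQ := (repQ S hS).normal_ker
  rcases hkI.eq_bot_or_eq_top with h | h
  · have hinj : Function.Injective ((repI S hS).comp P.subtype) := by
      rw [MonoidHom.coe_comp]
      exact Function.Injective.comp ((MonoidHom.ker_eq_bot_iff (repI S hS)).1 h)
        (Subgroup.subtype_injective P)
    have hfr := finrank_I_le (K := K)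
    exact Cfsg.Agent.Lib.Helper36.LinCyc.cyclic_of_faithful (e := 6) hP hp2 _ hinj hpq hpK he
      (by omega)
  · rcases hkQ.eq_bot_or_eq_top with h' | h'
    · have hinj : Function.Injective ((repQ S hS).comp P.subtype) := by
        rw [MonoidHom.coe_comp]
        exact Function.Injective.comp ((MonoidHom.ker_eq_bot_iff (repQ S hS)).1 h')
          (Subgroup.subtype_injective P)
      have hfr := finrank_Q_le (K := K)
      exact Cfsg.Agent.Lib.Helper36.LinCyc.cyclic_of_faithful (e := 6) hP hp2 _ hinj hpq hpK he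
        (by omega)
    · exfalso
      obtain ⟨g, hg⟩ := hex
      apply hg
      apply cube_eq_one h3 hS g
      · have : g ∈ (repI S hS).ker := by rw [h]; trivial
        exact this
      · have : g ∈ (repQ S hS).ker := by rw [h']; trivial
        exact this

end Cfsg.Agent.Lib.Helper36.ReeIdeal
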