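import Mathlib
import Cfsg.Agent.Lib.Helper36.LinCyc

/-!
Sylow transfer of cyclicity, and cyclicity of the `p`-subgroups of `SL₂(q)`, `PSL₂(q)` and
`Z₂ × PSL₂(q)` for an odd prime `p` not dividing `q (q - 1)`.
-/

set_option autoImplicit false

namespace Cfsg.Agent.Lib.Helper36.ReeSyl

open Matrix Module

/-- if a subgroup `X` has order divisible by the order of a Sylow `p`-subgroup `P` of `G` and all
`p`-subgroups of `X` are cyclic, then `P` is cyclic -/
theorem cyclic_of_subgroup {G : Type*} [Group G] [Finite G] {p : ℕ} [Fact p.Prime] (P : Sylow p G)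
    (X : Subgroup G) (hX : ∀ R : Subgroup G, R ≤ X → IsPGroup p R → IsCyclic R)
    (hdvd : Nat.card (P : Subgroup G) ∣ Nat.card X) : IsCyclic (P : Subgroup G) := by
  classical
  obtain ⟨R₀⟩ : Nonempty (Sylow p X) := inferInstance
  have hRX : (R₀ : Subgroup X).map X.subtype ≤ X := by
    rintro _ ⟨x, _, rfl⟩; exact x.2
  have hRp : IsPGroup p ((R₀ : Subgroup X).map X.subtype) := R₀.2.map _
  have hRcard : Nat.card ((R₀ : Subgroup X).map X.subtype) = Nat.card (R₀ : Subgroup X) :=
    Nat.card_congr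
      ((R₀ : Subgroup X).equivMapOfInjective X.subtype X.subtype_injective).symm.toEquiv
  obtain ⟨P', hP'⟩ := hRp.exists_le_sylow
  have hcardP' : Nat.card (P' : Subgroup G) = Nat.card (P : Subgroup G) := by
    rw [P'.card_eq_multiplicity, P.card_eq_multiplicity]
  have hle : Nat.card (P' : Subgroup G) ≤ Nat.card ((R₀ : Subgroup X).map X.subtype) := by
    rw [hcardP', hRcard, R₀.card_eq_multiplicity]
    rw [P.card_eq_multiplicity] at hdvd ⊢
    have hX0 : Nat.card X ≠ 0 := Nat.card_pos.ne'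
    have := ((Fact.out : p.Prime).pow_dvd_iff_le_factorization hX0).1 hdvd
    exact Nat.pow_le_pow_right (Fact.out : p.Prime).pos this
  have hEq : (R₀ : Subgroup X).map X.subtype = P' := Subgroup.eq_of_le_of_card_ge hP' hle
  haveI : IsCyclic (P' : Subgroup G) := by rw [← hEq]; exact hX _ hRX hRp
  exact isCyclic_of_surjective (Sylow.equiv P' P) (MulEquiv.surjective _)

variable {K : Type*} [Field K] [Fintype K] {p : ℕ} [Fact p.Prime]

/-- `p`-subgroups of `SL₂(q)` are cyclic -/
theorem sl2_cyclic (hp2 : p ≠ 2) (hpq : ¬ p ∣ Fintype.card K) (hpK : (p : K) ≠ 0)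
    (h1 : ¬ p ∣ Fintype.card K - 1) (R : Subgroup (SpecialLinearGroup (Fin 2) K))
    (hR : IsPGroup p R) : IsCyclic R := by
  classical
  let ρ : R →* ((Fin 2 → K) →ₗ[K] (Fin 2 → K)) :=
    { toFun := fun g => Matrix.toLin' (g.1.1 : Matrix (Fin 2) (Fin 2) K)
      map_one' := by simp; rfl
      map_mul' := by intro a b; simp [Matrix.toLin'_mul]; rfl }
  have hρ : Function.Injective ρ := by
    intro a b h
    apply Subtype.ext
    apply Subtype.ext
    exact Matrix.toLin'.injective h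
  refine Cfsg.Agent.Lib.Helper36.LinCyc.cyclic_of_faithful (e := 2) hR hp2 ρ hρ hpq hpK ?_ ?_
  · intro j hj0 hj2
    have : j = 1 := by omega
    subst this
    simpa using h1
  · simp

/-- `p`-subgroups of `PSL₂(q)` are cyclic -/
theorem psl2_cyclic (hp2 : p ≠ 2) (hpq : ¬ p ∣ Fintype.card K) (hpK : (p : K) ≠ 0)
    (h1 : ¬ p ∣ Fintype.card K - 1) (R : Subgroup (ProjectiveSpecialLinearGroup (Fin 2) K))
    (hR : IsPGroup p R) : IsCyclic R := by
  classical
  let mk : SpecialLinearGroup (Fin 2) K →* ProjectiveSpecialLinearGroup (Fin 2) K :=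
    QuotientGroup.mk' _
  have hsurj : Function.Surjective mk := QuotientGroup.mk'_surjective _
  obtain ⟨P₀⟩ : Nonempty (Sylow p (SpecialLinearGroup (Fin 2) K)) := inferInstance
  haveI : IsCyclic (P₀ : Subgroup (SpecialLinearGroup (Fin 2) K)) :=
    sl2_cyclic hp2 hpq hpK h1 _ P₀.2
  let Q₀ : Sylow p (ProjectiveSpecialLinearGroup (Fin 2) K) := P₀.mapSurjective hsurj
  have hQ₀ : (Q₀ : Subgroup (ProjectiveSpecialLinearGroup (Fin 2) K))
      = (P₀ : Subgroup (SpecialLinearGroup (Fin 2) K)).map mk := rfl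
  haveI : IsCyclic (Q₀ : Subgroup (ProjectiveSpecialLinearGroup (Fin 2) K)) := by
    rw [hQ₀]
    exact isCyclic_of_surjective (mk.subgroupMap (P₀ : Subgroup (SpecialLinearGroup (Fin 2) K)))
      (mk.subgroupMap_surjective _)
  obtain ⟨Q₁, hQ₁⟩ := hR.exists_le_sylow
  haveI : IsCyclic (Q₁ : Subgroup (ProjectiveSpecialLinearGroup (Fin 2) K)) :=
    isCyclic_of_surjective (Sylow.equiv Q₀ Q₁) (MulEquiv.surjective _)
  exact Subgroup.isCyclic_of_le hQ₁

/-- `p`-subgroups of a group isomorphic to `Z₂ × PSL₂(q)` are cyclic -/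
theorem prod_cyclic (hp2 : p ≠ 2) (hpq : ¬ p ∣ Fintype.card K) (hpK : (p : K) ≠ 0)
    (h1 : ¬ p ∣ Fintype.card K - 1) {A : Type*} [Group A]
    (φ : A ≃* Multiplicative (ZMod 2) × ProjectiveSpecialLinearGroup (Fin 2) K)
    (R : Subgroup A) (hR : IsPGroup p R) : IsCyclic R := by
  classical
  let ψ : R →* ProjectiveSpecialLinearGroup (Fin 2) K :=
    ((MonoidHom.snd _ _).comp φ.toMonoidHom).comp R.subtype
  have hψ : Function.Injective ψ := by
    rw [injective_iff_map_eq_one]
    intro r hr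
    -- `φ r = (ε, 1)`, so `r ^ 2 = 1`
    have h2 : (φ (r : A)) ^ 2 = 1 := by
      have hsnd : (φ (r : A)).2 = 1 := hr
      apply Prod.ext
      · rw [Prod.pow_fst]
        have : ∀ x : Multiplicative (ZMod 2), x ^ 2 = 1 := by decide
        exact this _
      · rw [Prod.pow_snd, hsnd, one_pow]; rfl
    have h3 : (r : A) ^ 2 = 1 := by
      apply φ.injective
      rw [map_pow, h2, map_one]
    have h4 : r ^ 2 = 1 := Subtype.ext (by simpa using h3)
    obtain ⟨k, hk⟩ := hR r
    have h5 : orderOf r ∣ 2 := orderOf_dvd_of_pow_eq_one h4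
    have h6 : orderOf r ∣ p ^ k := orderOf_dvd_of_pow_eq_one hk
    have h7 : Nat.Coprime 2 (p ^ k) := by
      apply Nat.Coprime.pow_right
      rw [Nat.coprime_primes Nat.prime_two (Fact.out : p.Prime)]
      exact fun h => hp2 h.symm
    have h8 : orderOf r = 1 := Nat.eq_one_of_dvd_coprimes h7 h5 h6
    exact orderOf_eq_one_iff.1 h8
  haveI : IsCyclic ψ.range :=
    psl2_cyclic hp2 hpq hpK h1 _ (IsPGroup.of_surjective hR ψ.rangeRestrict ψ.rangeRestrict_surjective)
  exact isCyclic_of_surjective (MonoidHom.ofInjective hψ).symm (MulEquiv.surjective _)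

end Cfsg.Agent.Lib.Helper36.ReeSyl
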