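import Mathlib
import Cfsg.Agent.Lib.Helper36.ReeIdeal
import Cfsg.Agent.Lib.Helper36.ReeSyl
import Cfsg.Agent.Lib.Helper38.SLCard
import Cfsg.Prelude.Def_LieTwisted

/-!
The Sylow `p`-subgroups of the Ree group `²G₂(q)` are cyclic for `p > 3`, from its order, its
simplicity, the cyclic torus of order `q - 1`, the centralizer `Z₂ × PSL₂(q)` of an involution and
the 7-dimensional module in characteristic 3.
-/

set_option autoImplicit false

namespace Cfsg.Agent.Lib.Helper36.ReeCyc

open Cfsg Cfsg.Lie Matrix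

section arith

variable {p : ℕ} [Fact p.Prime]

theorem zmod_two_ne (hp : 3 < p) : (2 : ZMod p) ≠ 0 := by
  intro h
  have h2 : ((2 : ℕ) : ZMod p) = 0 := by exact_mod_cast h
  have := Nat.le_of_dvd (by norm_num) ((ZMod.natCast_eq_zero_iff 2 p).1 h2)
  omega

theorem zmod_three_ne (hp : 3 < p) : (3 : ZMod p) ≠ 0 := by
  intro h
  have h2 : ((3 : ℕ) : ZMod p) = 0 := by exact_mod_cast h
  have := Nat.le_of_dvd (by norm_num) ((ZMod.natCast_eq_zero_iff 3 p).1 h2)
  omega

theorem arith_cases {q k : ℕ} (hq : 1 ≤ q) (hp : 3 < p) (hpq : ¬ p ∣ q)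
    (hdvd : p ^ k ∣ q ^ 3 * (q - 1) * (q ^ 3 + 1)) :
    p ^ k ∣ q - 1 ∨ (¬ p ∣ q - 1 ∧ p ^ k ∣ q + 1) ∨ k = 0 ∨
      (¬ p ∣ q - 1 ∧ ¬ p ∣ q + 1 ∧ (q : ZMod p) ^ 2 - q + 1 = 0) := by
  have hpp : p.Prime := Fact.out
  have hcop_q : Nat.Coprime (p ^ k) (q ^ 3) :=
    Nat.Coprime.pow _ _ ((Nat.Prime.coprime_iff_not_dvd hpp).2 hpq)
  have h1 : p ^ k ∣ (q - 1) * (q ^ 3 + 1) := by
    rw [mul_assoc] at hdvd
    exact hcop_q.dvd_of_dvd_mul_left hdvd
  have hle : q ≤ q * q + 1 := by nlinarith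
  have hfac : q ^ 3 + 1 = (q + 1) * (q * q + 1 - q) := by
    zify [hle]; ring
  by_cases hA : p ∣ q - 1
  · left
    have hx : (q : ZMod p) = 1 := by
      have := (ZMod.natCast_eq_zero_iff (q - 1) p).2 hA
      rw [Nat.cast_sub hq, Nat.cast_one] at this
      linear_combination this
    have hnd : ¬ p ∣ q ^ 3 + 1 := by
      intro h
      have := (ZMod.natCast_eq_zero_iff (q ^ 3 + 1) p).2 h
      push_cast at this
      rw [hx] at this
      apply zmod_two_ne hp
      linear_combination this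
    have hcop : Nat.Coprime (p ^ k) (q ^ 3 + 1) :=
      Nat.Coprime.pow_left _ ((Nat.Prime.coprime_iff_not_dvd hpp).2 hnd)
    exact hcop.dvd_of_dvd_mul_right h1
  · right
    have hcop1 : Nat.Coprime (p ^ k) (q - 1) :=
      Nat.Coprime.pow_left _ ((Nat.Prime.coprime_iff_not_dvd hpp).2 hA)
    have h2 : p ^ k ∣ (q + 1) * (q * q + 1 - q) := by
      rw [← hfac]; exact hcop1.dvd_of_dvd_mul_left h1
    by_cases hB : p ∣ q + 1
    · left
      refine ⟨hA, ?_⟩
      have hx : (q : ZMod p) = -1 := by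
        have := (ZMod.natCast_eq_zero_iff (q + 1) p).2 hB
        push_cast at this
        linear_combination this
      have hnd : ¬ p ∣ q * q + 1 - q := by
        intro h
        have := (ZMod.natCast_eq_zero_iff _ p).2 h
        rw [Nat.cast_sub hle] at this
        push_cast at this
        rw [hx] at this
        apply zmod_three_ne hp
        linear_combination this
      have hcop : Nat.Coprime (p ^ k) (q * q + 1 - q) :=
        Nat.Coprime.pow_left _ ((Nat.Prime.coprime_iff_not_dvd hpp).2 hnd)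
      exact hcop.dvd_of_dvd_mul_right h2
    · right
      by_cases hk : k = 0
      · left; exact hk
      · right
        refine ⟨hA, hB, ?_⟩
        have hpd : p ∣ (q + 1) * (q * q + 1 - q) := dvd_trans (dvd_pow_self p hk) h2
        rcases (Nat.Prime.dvd_mul hpp).1 hpd with h | h
        · exact absurd h hB
        · have := (ZMod.natCast_eq_zero_iff _ p).2 h
          rw [Nat.cast_sub hle] at this
          push_cast at this
          linear_combination this

theorem no_small_order {q : ℕ} (hq : 1 ≤ q) (hp : 3 < p) (hA : ¬ p ∣ q - 1) (hB : ¬ p ∣ q + 1)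
    (hx : (q : ZMod p) ^ 2 - q + 1 = 0) : ∀ j, 0 < j → j < 6 → ¬ p ∣ q ^ j - 1 := by
  intro j hj0 hj6 hdvd
  have hxj : (q : ZMod p) ^ j = 1 := by
    have := (ZMod.natCast_eq_zero_iff (q ^ j - 1) p).2 hdvd
    rw [Nat.cast_sub (Nat.one_le_pow _ _ hq)] at this
    push_cast at this
    linear_combination this
  have hx1 : (q : ZMod p) ≠ 1 := by
    intro h
    apply hA
    rw [← ZMod.natCast_eq_zero_iff, Nat.cast_sub hq]
    push_cast; rw [h]; ring
  have hxm1 : (q : ZMod p) ≠ -1 := by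
    intro h
    apply hB
    rw [← ZMod.natCast_eq_zero_iff]
    push_cast; rw [h]; ring
  generalize (q : ZMod p) = x at hx hxj hx1 hxm1
  interval_cases j
  · exact hx1 (by simpa using hxj)
  · have : (x - 1) * (x + 1) = 0 := by linear_combination hxj
    rcases mul_eq_zero.1 this with h | h
    · exact hx1 (by linear_combination h)
    · exact hxm1 (by linear_combination h)
  · apply zmod_two_ne hp
    linear_combination (x + 1) * hx - hxj
  · apply hxm1
    linear_combination x * (x + 1) * hx - hxj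
  · have h0 : x = 0 := by linear_combination (x ^ 2 * (x + 1) - 1) * hx - hxj
    rw [h0] at hx
    simp at hx

end arith

theorem dvd_card_psl2 {K : Type*} [Field K] [Fintype K] {p k : ℕ} [Fact p.Prime] (hp2 : p ≠ 2)
    (h : p ^ k ∣ Fintype.card K + 1) :
    p ^ k ∣ Nat.card (Matrix.ProjectiveSpecialLinearGroup (Fin 2) K) := by
  classical
  have hSL := Cfsg.Agent.Lib.Helper38.SLCard.card_SL2 (F := K)
  have h1 : p ^ k ∣ Nat.card (Matrix.SpecialLinearGroup (Fin 2) K) := by
    rw [hSL]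
    apply Dvd.dvd.mul_left
    have h1 : 1 ≤ Fintype.card K := Fintype.card_pos
    have : Fintype.card K ^ 2 - 1 = (Fintype.card K + 1) * (Fintype.card K - 1) := by
      zify [h1, Nat.one_le_pow 2 _ h1]; ring
    rw [this]; exact Dvd.dvd.mul_right h _
  have h2 := Subgroup.card_eq_card_quotient_mul_card_subgroup
    (Subgroup.center (Matrix.SpecialLinearGroup (Fin 2) K))
  have hZ : IsPGroup 2 (Subgroup.center (Matrix.SpecialLinearGroup (Fin 2) K)) := by
    intro z
    refine ⟨1, ?_⟩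
    obtain ⟨r, hr1, hr2⟩ := Matrix.SpecialLinearGroup.mem_center_iff.1 z.2
    apply Subtype.ext
    apply Subtype.ext
    have h3 : ((z : Matrix.SpecialLinearGroup (Fin 2) K) : Matrix (Fin 2) (Fin 2) K)
        = Matrix.scalar (Fin 2) r := hr2.symm
    simp only [pow_one, Subgroup.coe_pow, Matrix.SpecialLinearGroup.coe_pow, h3, ← map_pow]
    simp only [Fintype.card_fin] at hr1
    rw [hr1]
    simp
  obtain ⟨n, hn⟩ := IsPGroup.iff_card.1 hZ
  have hcop : Nat.Coprime (p ^ k)
      (Nat.card (Subgroup.center (Matrix.SpecialLinearGroup (Fin 2) K))) := by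
    rw [hn]
    apply Nat.Coprime.pow
    rw [Nat.coprime_primes Fact.out Nat.prime_two]
    exact hp2
  rw [h2] at h1
  exact hcop.dvd_of_dvd_mul_right h1

theorem main {K : Type*} [Field K] [Fintype K] {m : ℕ} (hK : Fintype.card K = 3 ^ (2 * m + 1))
    (hcard : Nat.card ↥(twistedG2 K (3 ^ m))
      = (3 ^ (2 * m + 1)) ^ 3 * (3 ^ (2 * m + 1) - 1) * ((3 ^ (2 * m + 1)) ^ 3 + 1))
    (hsimple : IsSimpleGroup ↥(twistedG2 K (3 ^ m)))
    (hH : Nat.card ↥(chevG2.diagonalSubgroup K ⊓ twistedG2 K (3 ^ m)) = 3 ^ (2 * m + 1) - 1)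
    (hHc : IsCyclic ↥(chevG2.diagonalSubgroup K ⊓ twistedG2 K (3 ^ m)))
    (hcent : ∀ a : ↥(twistedG2 K (3 ^ m)),
      (a : GL chevG2.Idx K) ∈ chevG2.diagonalSubgroup K → a ≠ 1 → a * a = 1 →
      Nonempty (↥(Subgroup.centralizer {a})
        ≃* Multiplicative (ZMod 2) × Matrix.ProjectiveSpecialLinearGroup (Fin 2) K))
    {p : ℕ} [Fact p.Prime] (hp : 3 < p) (P : Sylow p ↥(twistedG2 K (3 ^ m))) :
    IsCyclic (P : Subgroup ↥(twistedG2 K (3 ^ m))) := by
  classical
  have hpp : p.Prime := Fact.out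
  obtain ⟨q, hq⟩ : ∃ q : ℕ, q = 3 ^ (2 * m + 1) := ⟨_, rfl⟩
  rw [← hq] at hK hcard hH
  have hq3 : 3 ≤ q := by
    rw [hq]
    calc 3 = 3 ^ 1 := by norm_num
      _ ≤ 3 ^ (2 * m + 1) := Nat.pow_le_pow_right (by norm_num) (by omega)
  have hqodd : Odd q := by rw [hq]; exact Odd.pow (by decide)
  have h3K : (3 : K) = 0 := by
    have := Nat.cast_card_eq_zero K
    rw [hK, hq] at this
    push_cast at this
    exact (pow_eq_zero_iff (by omega)).1 this
  have hpq : ¬ p ∣ q := by
    intro h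
    rw [hq] at h
    have := (Nat.prime_dvd_prime_iff_eq hpp Nat.prime_three).1 (hpp.dvd_of_dvd_pow h)
    omega
  have hpK : (p : K) ≠ 0 := by
    intro h0
    have hc : Nat.Coprime p 3 := (Nat.coprime_primes hpp Nat.prime_three).2 (by omega)
    obtain ⟨a, b, hab⟩ := Nat.isCoprime_iff_coprime.2 hc
    have := congrArg (Int.cast : ℤ → K) hab
    push_cast at this
    rw [h0, h3K] at this
    simp at this
  have hp2 : p ≠ 2 := by omega
  have hPcard := P.card_eq_multiplicity
  have hdvdG : p ^ (Nat.card ↥(twistedG2 K (3 ^ m))).factorization p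
      ∣ q ^ 3 * (q - 1) * (q ^ 3 + 1) := by
    rw [← hcard, ← hPcard]; exact Subgroup.card_subgroup_dvd_card _
  generalize (Nat.card ↥(twistedG2 K (3 ^ m))).factorization p = k at hPcard hdvdG
  have h2H : 2 ∣ Nat.card ↥(chevG2.diagonalSubgroup K ⊓ twistedG2 K (3 ^ m)) := by
    rw [hH]; obtain ⟨c, hc⟩ := hqodd; exact ⟨c, by omega⟩
  rcases arith_cases (by omega) hp hpq hdvdG with hA | ⟨hA, hB⟩ | hk0 | ⟨hA, hB, hx⟩
  · -- the torus
    let X : Subgroup ↥(twistedG2 K (3 ^ m)) :=
      (chevG2.diagonalSubgroup K ⊓ twistedG2 K (3 ^ m)).subgroupOf (twistedG2 K (3 ^ m))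
    let e : ↥X ≃* ↥(chevG2.diagonalSubgroup K ⊓ twistedG2 K (3 ^ m)) :=
      Subgroup.subgroupOfEquivOfLe inf_le_right
    haveI : IsCyclic ↥X := isCyclic_of_surjective e.symm e.symm.surjective
    apply ReeSyl.cyclic_of_subgroup P X
    · intro R hRX _
      exact Subgroup.isCyclic_of_le hRX
    · rw [hPcard, Nat.card_congr e.toEquiv, hH]; exact hA
  · -- the centralizer of an involution
    obtain ⟨t, ht⟩ := exists_prime_orderOf_dvd_card' 2 h2H
    let a : ↥(twistedG2 K (3 ^ m)) := ⟨t.1, t.2.2⟩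
    have haH : (a : GL chevG2.Idx K) ∈ chevG2.diagonalSubgroup K := t.2.1
    have ht1 : t ≠ 1 := by intro h; rw [h, orderOf_one] at ht; omega
    have ha1 : a ≠ 1 := by
      intro h
      apply ht1
      apply Subtype.ext
      have h' : (a : GL chevG2.Idx K) = 1 := congrArg Subtype.val h
      exact h'
    have ht2 : t * t = 1 := by rw [← pow_two, ← ht]; exact pow_orderOf_eq_one t
    have ha2 : a * a = 1 := by
      apply Subtype.ext
      have h' : (t : GL chevG2.Idx K) * (t : GL chevG2.Idx K) = 1 := congrArg Subtype.val ht2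
      exact h'
    obtain ⟨φ⟩ := hcent a haH ha1 ha2
    apply ReeSyl.cyclic_of_subgroup P (Subgroup.centralizer {a})
    · intro R hRX hR
      let e : ↥(R.subgroupOf (Subgroup.centralizer {a})) ≃* ↥R := Subgroup.subgroupOfEquivOfLe hRX
      have hR' : IsPGroup p ↥(R.subgroupOf (Subgroup.centralizer {a})) := hR.of_equiv e.symm
      haveI := ReeSyl.prod_cyclic hp2 (by rw [hK]; exact hpq) hpK (by rw [hK]; exact hA) φ _ hR'
      exact isCyclic_of_surjective e e.surjective
    · rw [hPcard, Nat.card_congr φ.toEquiv, Nat.card_prod]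
      apply Dvd.dvd.mul_left
      apply dvd_card_psl2 hp2
      rw [hK]; exact hB
  · -- trivial Sylow subgroup
    rw [hk0, pow_zero] at hPcard
    haveI : Subsingleton ↥(P : Subgroup ↥(twistedG2 K (3 ^ m))) :=
      (Nat.card_eq_one_iff_unique.1 hPcard).1
    exact isCyclic_of_subsingleton
  · -- the 7-dimensional module
    have he : ∀ j, 0 < j → j < 6 → ¬ p ∣ Fintype.card K ^ j - 1 := by
      rw [hK]; exact no_small_order (by omega) hp hA hB hx
    have h2G : 2 ∣ Nat.card ↥(twistedG2 K (3 ^ m)) := by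
      rw [hcard]
      apply Dvd.dvd.mul_right
      apply Dvd.dvd.mul_left
      obtain ⟨c, hc⟩ := hqodd; exact ⟨c, by omega⟩
    obtain ⟨g, hg⟩ := exists_prime_orderOf_dvd_card' 2 h2G
    have hex : ∃ g : ↥(twistedG2 K (3 ^ m)), g ^ 3 ≠ 1 := by
      refine ⟨g, fun h => ?_⟩
      have := orderOf_dvd_of_pow_eq_one h
      rw [hg] at this
      omega
    haveI := hsimple
    exact ReeIdeal.cyclic_of_simple h3K (twistedG2 K (3 ^ m)) (ReeIdeal.inv_gen h3K _) hex hp2
      (by rw [hK]; exact hpq) hpK he P P.2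

end Cfsg.Agent.Lib.Helper36.ReeCyc
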