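import Mathlib
import Cfsg.Agent.Lib.Helper36.ReeIdeal
import Cfsg.Prelude.Def_LieTwisted

/-!
A faithful 7-dimensional representation, as a homomorphism to `GL (Fin 7) K`, of a simple group
generated by words in root elements of `G₂` in characteristic 3 (for instance the Ree group): the
action on the short-root ideal of the adjoint module or on the quotient by it.
-/

set_option autoImplicit false

namespace Cfsg.Agent.Lib.Helper36.ReeRep

open Cfsg Cfsg.Lie Module Cfsg.Agent.Lib.Helper36.ReeIdeal

variable {K : Type*} [Field K]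

theorem finrank_add : finrank K ((chevG2.Idx → K) ⧸ I K) + finrank K (I K) = 14 := by
  rw [Submodule.finrank_quotient_add_finrank, Module.finrank_fintype_fun_eq_card]
  rfl

theorem finrank_I : finrank K (I K) = 7 := by
  have h1 := finrank_add (K := K)
  have h2 := finrank_I_le (K := K)
  have h3 := finrank_Q_le (K := K)
  omega

theorem finrank_Q : finrank K ((chevG2.Idx → K) ⧸ I K) = 7 := by
  have h1 := finrank_add (K := K)
  have h2 := finrank_I_le (K := K)
  have h3 := finrank_Q_le (K := K)
  omega

/-- a faithful representation on a space of dimension `n` gives an embedding into `GL (Fin n) K` -/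
theorem toGL {S : Type*} [Group S] {U : Type*} [AddCommGroup U] [Module K U]
    [FiniteDimensional K U] {n : ℕ} (hn : finrank K U = n) (ρ : S →* (U →ₗ[K] U))
    (hρ : Function.Injective ρ) : ∃ ρ' : S →* GL (Fin n) K, Function.Injective ρ' := by
  classical
  let b : Basis (Fin n) K U := Module.finBasisOfFinrankEq K U hn
  let f : (U →ₗ[K] U) →* Matrix (Fin n) (Fin n) K :=
    (LinearMap.toMatrixAlgEquiv b).toRingEquiv.toMonoidHom
  have hf : Function.Injective f := (LinearMap.toMatrixAlgEquiv b).injective
  refine ⟨(f.comp ρ).toHomUnits, ?_⟩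
  intro x y hxy
  apply hρ
  apply hf
  have h := congrArg Units.val hxy
  rw [MonoidHom.coe_toHomUnits, MonoidHom.coe_toHomUnits] at h
  exact h

/-- a simple group leaving the ideal invariant, not of exponent 3, embeds into `GL (Fin 7) K` -/
theorem exists_faithful7 (h3 : (3 : K) = 0) (S : Subgroup (GL chevG2.Idx K))
    (hS : ∀ g ∈ S, Inv (g : Matrix chevG2.Idx chevG2.Idx K)) [IsSimpleGroup S]
    (hex : ∃ g : S, g ^ 3 ≠ 1) : ∃ ρ : S →* GL (Fin 7) K, Function.Injective ρ := by
  classical
  rcases (repI S hS).normal_ker.eq_bot_or_eq_top with h | h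
  · exact toGL finrank_I (repI S hS) ((MonoidHom.ker_eq_bot_iff _).1 h)
  · rcases (repQ S hS).normal_ker.eq_bot_or_eq_top with h' | h'
    · exact toGL finrank_Q (repQ S hS) ((MonoidHom.ker_eq_bot_iff _).1 h')
    · exfalso
      obtain ⟨g, hg⟩ := hex
      apply hg
      apply cube_eq_one h3 hS g
      · have : g ∈ (repI S hS).ker := by rw [h]; trivial
        exact this
      · have : g ∈ (repQ S hS).ker := by rw [h']; trivial
        exact this

/-- the Ree group `²G₂(3^(2m+1))` has a faithful 7-dimensional representation over its field, given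
its order and simplicity -/
theorem faithful7_of [Fintype K] {m : ℕ} (hK : Fintype.card K = 3 ^ (2 * m + 1))
    (hcard : Nat.card ↥(twistedG2 K (3 ^ m))
      = (3 ^ (2 * m + 1)) ^ 3 * (3 ^ (2 * m + 1) - 1) * ((3 ^ (2 * m + 1)) ^ 3 + 1))
    (hsimple : IsSimpleGroup ↥(twistedG2 K (3 ^ m))) :
    ∃ ρ : ↥(twistedG2 K (3 ^ m)) →* GL (Fin 7) K, Function.Injective ρ := by
  classical
  have h3K : (3 : K) = 0 := by
    have := Nat.cast_card_eq_zero K
    rw [hK] at this
    push_cast at this
    exact (pow_eq_zero_iff (by omega)).1 this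
  have hqodd : Odd (3 ^ (2 * m + 1)) := Odd.pow (by decide)
  have h2G : 2 ∣ Nat.card ↥(twistedG2 K (3 ^ m)) := by
    rw [hcard]
    apply Dvd.dvd.mul_right
    apply Dvd.dvd.mul_left
    obtain ⟨c, hc⟩ := hqodd; exact ⟨c, by omega⟩
  obtain ⟨g, hg⟩ := exists_prime_orderOf_dvd_card' 2 h2G
  have hex : ∃ g : ↥(twistedG2 K (3 ^ m)), g ^ 3 ≠ 1 := by
    refine ⟨g, fun h => ?_⟩
    have := orderOf_dvd_of_pow_eq_one h
    rw [hg] at this
    omega
  haveI := hsimple
  exact exists_faithful7 h3K (twistedG2 K (3 ^ m)) (inv_gen h3K _) hex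

end Cfsg.Agent.Lib.Helper36.ReeRep
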