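import Cfsg.Agent.S1069
import Cfsg.Agent.S1073
import Cfsg.Agent.Lib.Helper36.ReeRep

/-!
The Ree group `²G₂(3^(2m+1))`, `m ≥ 1`, has a faithful 7-dimensional representation over its field.
-/

set_option autoImplicit false

namespace Cfsg.Agent.Lib.Helper36.ReeRep7

theorem faithful7 {K : Type*} [Field K] [Fintype K] {m : ℕ} (hm : 1 ≤ m)
    (hK : Fintype.card K = 3 ^ (2 * m + 1)) :
    ∃ ρ : ↥(Cfsg.Lie.twistedG2 K (3 ^ m)) →* GL (Fin 7) K, Function.Injective ρ :=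
  Cfsg.Agent.Lib.Helper36.ReeRep.faithful7_of hK (Cfsg.Agent.S1069.result hK)
    (Cfsg.Agent.S1073.result hm hK).1

end Cfsg.Agent.Lib.Helper36.ReeRep7
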