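import Mathlib
import Cfsg.Agent.Lib.Helper18.ReeHallStmt

/-!
# Solvable subgroups of the small Ree groups (statement file for S2361)

`q = qq m = 3^(2m+1)`, `r = rr m = 3^(m+1)`.  `Hyp` collects the local facts used (order, TI Sylow
3-subgroups and their normalizer, Sylow 2-subgroups and their normalizer, cyclic Sylow `p`-subgroups
for `p > 3`, the four cyclic subgroups of S1158).  Every piece is a `Prop` below; `solv_of_pieces`
assembles them into `SolvC`, the conclusion of S2361.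
-/

set_option autoImplicit false

namespace Cfsg.Agent.Lib.Helper36.ReeSolvStmt

open Cfsg.Agent.Lib.Helper42.ReeSpStmt Cfsg.Agent.Lib.Helper18.ReeHallStmt

universe u

/-- the local facts -/
structure Hyp (G : Type u) [Group G] (m : ℕ) : Prop where
  card : Nat.card G = qq m ^ 3 * (qq m - 1) * (qq m ^ 3 + 1)
  ti3 : ∀ P Q : Sylow 3 G, P ≠ Q → (P : Subgroup G) ⊓ (Q : Subgroup G) = ⊥
  n3 : ∃ U : Subgroup G, Nat.card ↥U = qq m ^ 3 ∧
    Nat.card ↥(Subgroup.normalizer (U : Set G)) = qq m ^ 3 * (qq m - 1)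
  syl2 : ∀ P : Sylow 2 G, Nat.card ↥(P : Subgroup G) = 8 ∧ ∀ x ∈ (P : Subgroup G), x * x = 1
  n2 : ∀ P : Sylow 2 G,
    Subgroup.centralizer ((P : Subgroup G) : Set G) = (P : Subgroup G) ∧
      Nat.card ↥(Subgroup.normalizer ((P : Subgroup G) : Set G)) = 168
  cyc : ∀ (p : ℕ) [Fact p.Prime], 3 < p → ∀ P : Sylow p G, IsCyclic ↥(P : Subgroup G)
  nh : NormP G ((qq m - 1) / 2) (2 * (qq m - 1))
  na : NormP G ((qq m + 1) / 4) (6 * (qq m + 1))
  nt1 : NormP G (qq m - rr m + 1) (6 * (qq m - rr m + 1))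
  nt2 : NormP G (qq m + rr m + 1) (6 * (qq m + rr m + 1))

/-- the conclusion of S2361 -/
def SolvC (G : Type u) [Group G] (m : ℕ) : Prop :=
  ∀ S : Subgroup G, Group.IsSolvable ↥S →
    ∃ A : Subgroup G, S ≤ Subgroup.normalizer (A : Set G) ∧
      ((∃ P : Sylow 2 G, A = P) ∨ (∃ P : Sylow 3 G, A = P) ∨
       (IsCyclic ↥A ∧ (Nat.card ↥A = (qq m - 1) / 2 ∨ Nat.card ↥A = (qq m + 1) / 4 ∨
          Nat.card ↥A = qq m - rr m + 1 ∨ Nat.card ↥A = qq m + rr m + 1)))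

/-! ## the pieces -/

/-- [ARI] a prime `p > 3` dividing the group order divides one of the four toral orders -/
def Ari : Prop :=
  ∀ (m p : ℕ), p.Prime → 3 < p → p ∣ qq m ^ 3 * (qq m - 1) * (qq m ^ 3 + 1) →
    p ∣ (qq m - 1) / 2 ∨ p ∣ (qq m + 1) / 4 ∨ p ∣ qq m - rr m + 1 ∨ p ∣ qq m + rr m + 1

/-- [ODD] a subgroup of order `p` is conjugate into the `NormP` subgroup `A` when `p ∣ |A|` and the
Sylow `p`-subgroups are cyclic, so its normalizer is the normalizer of a conjugate of `A` -/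
def OddP : Prop :=
  ∀ (G : Type u) [Group G] [Finite G] (p : ℕ) [Fact p.Prime],
    (∀ P : Sylow p G, IsCyclic ↥(P : Subgroup G)) → ∀ (a b : ℕ), NormP G a b → p ∣ a →
    ∀ M : Subgroup G, Nat.card ↥M = p →
      ∃ B : Subgroup G, IsCyclic ↥B ∧ Nat.card ↥B = a ∧
        Subgroup.normalizer (M : Set G) ≤ Subgroup.normalizer (B : Set G)

/-- [THREE] with TI Sylow 3-subgroups, the normalizer of a nontrivial 3-subgroup normalizes the
Sylow 3-subgroup containing it -/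
def ThreeP : Prop :=
  ∀ (G : Type u) [Group G] [Finite G],
    (∀ P Q : Sylow 3 G, P ≠ Q → (P : Subgroup G) ⊓ (Q : Subgroup G) = ⊥) →
    ∀ M : Subgroup G, IsPGroup 3 ↥M → M ≠ ⊥ →
      ∃ P : Sylow 3 G,
        Subgroup.normalizer (M : Set G) ≤ Subgroup.normalizer ((P : Subgroup G) : Set G)

/-- [CYCP] the subgroup of order `p` of a nontrivial cyclic `p`-group is normalized by its
normalizer -/
def CycP : Prop :=
  ∀ (G : Type u) [Group G] [Finite G] (p : ℕ) [Fact p.Prime] (M : Subgroup G),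
    IsCyclic ↥M → IsPGroup p ↥M → M ≠ ⊥ →
      ∃ M₀ : Subgroup G, Nat.card ↥M₀ = p ∧
        Subgroup.normalizer (M : Set G) ≤ Subgroup.normalizer (M₀ : Set G)

/-- [CORE] a solvable subgroup normalizes a nontrivial `p`-subgroup for an odd prime `p`, or has a
self-centralizing normal 2-subgroup (Fitting subgroup: landed S0009, S0044) -/
def CoreP : Prop :=
  ∀ (G : Type u) [Group G] [Finite G] (S : Subgroup G), Group.IsSolvable ↥S →
    (∃ (p : ℕ) (M : Subgroup G), p.Prime ∧ p ≠ 2 ∧ M ≠ ⊥ ∧ IsPGroup p ↥M ∧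
        S ≤ Subgroup.normalizer (M : Set G)) ∨
    (∃ T : Subgroup G, T ≤ S ∧ IsPGroup 2 ↥T ∧ S ≤ Subgroup.normalizer (T : Set G) ∧
        ∀ s ∈ S, (∀ t ∈ T, s * t = t * s) → s ∈ T)

/-- [N3] no Sylow 3-normalizer has order divisible by 4 -/
def N3P : Prop :=
  ∀ (G : Type u) [Group G] [Finite G] (m : ℕ),
    Nat.card G = qq m ^ 3 * (qq m - 1) * (qq m ^ 3 + 1) →
    (∃ U : Subgroup G, Nat.card ↥U = qq m ^ 3 ∧
      Nat.card ↥(Subgroup.normalizer (U : Set G)) = qq m ^ 3 * (qq m - 1)) →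
    ∀ P : Sylow 3 G, ¬ 4 ∣ Nat.card ↥(Subgroup.normalizer ((P : Subgroup G) : Set G))

/-- [C3V] no element of order 3 centralizes a subgroup of order 4 -/
def C3V : Prop :=
  ∀ (G : Type u) [Group G] [Finite G],
    (∀ P Q : Sylow 3 G, P ≠ Q → (P : Subgroup G) ⊓ (Q : Subgroup G) = ⊥) →
    (∀ P : Sylow 3 G, ¬ 4 ∣ Nat.card ↥(Subgroup.normalizer ((P : Subgroup G) : Set G))) →
    ∀ (V : Subgroup G) (x : G), Nat.card ↥V = 4 → orderOf x = 3 →
      (∀ v ∈ V, x * v = v * x) → False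

/-- [N3V] hence 9 does not divide the order of the normalizer of a subgroup of order 4 -/
def N3V : Prop :=
  ∀ (G : Type u) [Group G] [Finite G],
    (∀ (V : Subgroup G) (x : G), Nat.card ↥V = 4 → orderOf x = 3 →
      (∀ v ∈ V, x * v = v * x) → False) →
    ∀ V : Subgroup G, Nat.card ↥V = 4 → ¬ 9 ∣ Nat.card ↥(Subgroup.normalizer (V : Set G))

/-- [W7A] an elementary abelian group of order 8 has at most 7 subgroups of order 4 -/
def W7A : Prop :=
  ∀ (G : Type u) [Group G] [Finite G] (P : Subgroup G), Nat.card ↥P = 8 →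
    (∀ x ∈ P, x * x = 1) → Nat.card {W : Subgroup G // W ≤ P ∧ Nat.card ↥W = 4} ≤ 7

/-- [W7B] an element of order 7 normalizing a self-centralizing elementary abelian group `P` of
order 8 normalizes no subgroup of order 4 of `P` -/
def W7B : Prop :=
  ∀ (G : Type u) [Group G] [Finite G] (P : Subgroup G), Nat.card ↥P = 8 →
    (∀ x ∈ P, x * x = 1) → Subgroup.centralizer (P : Set G) = P →
    ∀ (W : Subgroup G) (z : G), W ≤ P → Nat.card ↥W = 4 → orderOf z = 7 →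
      z ∈ Subgroup.normalizer (P : Set G) → z ∉ Subgroup.normalizer (W : Set G)

/-- [W7] every subgroup of order 4 of `P` is normalized by an element of order 3 of `N(P)` -/
def W7 : Prop :=
  W7A.{u} → W7B.{u} →
  ∀ (G : Type u) [Group G] [Finite G] (P : Subgroup G), Nat.card ↥P = 8 →
    (∀ x ∈ P, x * x = 1) → Subgroup.centralizer (P : Set G) = P →
    Nat.card ↥(Subgroup.normalizer (P : Set G)) = 168 →
    ∀ V : Subgroup G, V ≤ P → Nat.card ↥V = 4 →
      ∃ y : G, orderOf y = 3 ∧ y ∈ Subgroup.normalizer (P : Set G) ∧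
        y ∈ Subgroup.normalizer (V : Set G)

/-- conclusion of FOUR: an element of order 3 normalizing a subgroup `V` of order 4 normalizes a
Sylow 2-subgroup containing `V` -/
def FourC (G : Type u) [Group G] : Prop :=
  ∀ (V : Subgroup G) (c : G), Nat.card ↥V = 4 → orderOf c = 3 →
    c ∈ Subgroup.normalizer (V : Set G) →
    ∃ P : Sylow 2 G, V ≤ (P : Subgroup G) ∧
      c ∈ Subgroup.normalizer ((P : Subgroup G) : Set G)

/-- [FOUR] -/
def FourP : Prop :=
  ∀ (G : Type u) [Group G] [Finite G],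
    (∀ P : Sylow 2 G, Nat.card ↥(P : Subgroup G) = 8 ∧ ∀ x ∈ (P : Subgroup G), x * x = 1) →
    (∀ P : Sylow 2 G,
      Subgroup.centralizer ((P : Subgroup G) : Set G) = (P : Subgroup G) ∧
        Nat.card ↥(Subgroup.normalizer ((P : Subgroup G) : Set G)) = 168) →
    (∀ (P : Subgroup G), Nat.card ↥P = 8 →
      (∀ x ∈ P, x * x = 1) → Subgroup.centralizer (P : Set G) = P →
      Nat.card ↥(Subgroup.normalizer (P : Set G)) = 168 →
      ∀ V : Subgroup G, V ≤ P → Nat.card ↥V = 4 →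
        ∃ y : G, orderOf y = 3 ∧ y ∈ Subgroup.normalizer (P : Set G) ∧
          y ∈ Subgroup.normalizer (V : Set G)) →
    (∀ V : Subgroup G, Nat.card ↥V = 4 → ¬ 9 ∣ Nat.card ↥(Subgroup.normalizer (V : Set G))) →
    FourC G

/-- [TWOA] the 2-elements of `S` lie in the self-centralizing normal 2-subgroup `T` (the Sylow
2-subgroups of `G` being abelian) -/
def TwoA : Prop :=
  ∀ (G : Type u) [Group G] [Finite G],
    (∀ P : Sylow 2 G, ∀ x ∈ (P : Subgroup G), x * x = 1) →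
    ∀ S T : Subgroup G, T ≤ S → IsPGroup 2 ↥T → S ≤ Subgroup.normalizer (T : Set G) →
      (∀ s ∈ S, (∀ t ∈ T, s * t = t * s) → s ∈ T) →
      ∀ s ∈ S, (∃ k : ℕ, s ^ 2 ^ k = 1) → s ∈ T

/-- [TWOB] a group with a self-centralizing normal subgroup of order 4 containing all its
2-elements has order 4 or 12 -/
def TwoB : Prop :=
  ∀ (G : Type u) [Group G] [Finite G] (S T : Subgroup G), T ≤ S → Nat.card ↥T = 4 →
    S ≤ Subgroup.normalizer (T : Set G) →
    (∀ s ∈ S, (∀ t ∈ T, s * t = t * s) → s ∈ T) →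
    (∀ s ∈ S, (∃ k : ℕ, s ^ 2 ^ k = 1) → s ∈ T) →
    Nat.card ↥S = 4 ∨ Nat.card ↥S = 12

/-- [TWOC] the case of a self-centralizing normal 2-subgroup -/
def TwoC : Prop :=
  TwoA.{u} → TwoB.{u} →
  ∀ (G : Type u) [Group G] [Finite G],
    (∀ P : Sylow 2 G, Nat.card ↥(P : Subgroup G) = 8 ∧ ∀ x ∈ (P : Subgroup G), x * x = 1) →
    FourC G →
    ∀ S T : Subgroup G, T ≤ S → IsPGroup 2 ↥T → S ≤ Subgroup.normalizer (T : Set G) →
      (∀ s ∈ S, (∀ t ∈ T, s * t = t * s) → s ∈ T) →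
      ∃ P : Sylow 2 G, S ≤ Subgroup.normalizer ((P : Subgroup G) : Set G)

/-! ## assembly -/

theorem solv_of_pieces (hAri : Ari) (hOdd : OddP.{u}) (hThree : ThreeP.{u}) (hCyc : CycP.{u})
    (hCore : CoreP.{u}) (hN3 : N3P.{u}) (hC3V : C3V.{u}) (hN3V : N3V.{u}) (hW7A : W7A.{u})
    (hW7B : W7B.{u}) (hW7 : W7.{u}) (hFour : FourP.{u}) (hTwoA : TwoA.{u}) (hTwoB : TwoB.{u})
    (hTwoC : TwoC.{u}) {G : Type u} [Group G] [Finite G] {m : ℕ} (h : Hyp G m) : SolvC G m := by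
  intro S hS
  have hfour : FourC G :=
    hFour G h.syl2 h.n2 (hW7 hW7A hW7B G)
      (hN3V G (hC3V G h.ti3 (hN3 G m h.card h.n3)))
  rcases hCore G S hS with ⟨p, M, hp, hp2, hM1, hMp, hSM⟩ | ⟨T, hTS, hT2, hST, hself⟩
  · by_cases hp3 : p = 3
    · subst hp3
      obtain ⟨P, hP⟩ := hThree G h.ti3 M hMp hM1
      exact ⟨P, hSM.trans hP, Or.inr (Or.inl ⟨P, rfl⟩)⟩
    · have hp5 : 3 < p := by
        have h2 := hp.two_le
        rcases Nat.lt_or_ge 3 p with h3 | h3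
        · exact h3
        · exfalso
          interval_cases p
          · exact hp2 rfl
          · exact hp3 rfl
      haveI : Fact p.Prime := ⟨hp⟩
      obtain ⟨P, hMP⟩ := hMp.exists_le_sylow
      haveI : IsCyclic ↥(P : Subgroup G) := h.cyc p hp5 P
      have hMcyc : IsCyclic ↥M := Subgroup.isCyclic_of_le hMP
      obtain ⟨M₀, hM₀, hMM₀⟩ := hCyc G p M hMcyc hMp hM1
      have hpG : p ∣ qq m ^ 3 * (qq m - 1) * (qq m ^ 3 + 1) := by
        rw [← h.card, ← hM₀]; exact Subgroup.card_subgroup_dvd_card M₀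
      have key : ∀ (a b : ℕ), NormP G a b → p ∣ a →
          ∃ B : Subgroup G, S ≤ Subgroup.normalizer (B : Set G) ∧ IsCyclic ↥B ∧
            Nat.card ↥B = a := by
        intro a b hab hpa
        obtain ⟨B, hB1, hB2, hB3⟩ := hOdd G p (h.cyc p hp5) a b hab hpa M₀ hM₀
        exact ⟨B, (hSM.trans hMM₀).trans hB3, hB1, hB2⟩
      rcases hAri m p hp hp5 hpG with h1 | h1 | h1 | h1
      · obtain ⟨B, hB1, hB2, hB3⟩ := key _ _ h.nh h1
        exact ⟨B, hB1, Or.inr (Or.inr ⟨hB2, Or.inl hB3⟩)⟩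
      · obtain ⟨B, hB1, hB2, hB3⟩ := key _ _ h.na h1
        exact ⟨B, hB1, Or.inr (Or.inr ⟨hB2, Or.inr (Or.inl hB3)⟩)⟩
      · obtain ⟨B, hB1, hB2, hB3⟩ := key _ _ h.nt1 h1
        exact ⟨B, hB1, Or.inr (Or.inr ⟨hB2, Or.inr (Or.inr (Or.inl hB3))⟩)⟩
      · obtain ⟨B, hB1, hB2, hB3⟩ := key _ _ h.nt2 h1
        exact ⟨B, hB1, Or.inr (Or.inr ⟨hB2, Or.inr (Or.inr (Or.inr hB3))⟩)⟩
  · obtain ⟨P, hP⟩ := hTwoC hTwoA hTwoB G h.syl2 hfour S T hTS hT2 hST hself
    exact ⟨P, hP, Or.inl ⟨P, rfl⟩⟩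

end Cfsg.Agent.Lib.Helper36.ReeSolvStmt
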