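import Mathlib
import Cfsg.Agent.Lib.Helper25.ACStmt
import Cfsg.Agent.Lib.Helper63.PFrattini

/-!
# S3912 / PAB (helper36): an `r`-group (`r` odd) with a subgroup `N` of order `r` containing all
elements of order `r` and all commutators is abelian.
-/

set_option autoImplicit false

universe u

namespace Cfsg.Agent.Lib.Helper36.ACPAB

open Cfsg.Agent.Lib.Helper25.ACStmt

/-- `b ^ n * a = z ^ n * a * b ^ n` when `b a = z a b` with `z` central. -/
theorem pow_mul_comm' {P : Type u} [Group P] (a b z : P) (hba : b * a = z * a * b)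
    (hz : ∀ g : P, Commute z g) (n : ℕ) : b ^ n * a = z ^ n * a * b ^ n := by
  induction n with
  | zero => simp
  | succ n ih =>
    have h1 : b * z ^ n = z ^ n * b := ((hz b).pow_left n).eq.symm
    calc b ^ (n + 1) * a = b * (b ^ n * a) := by rw [pow_succ', mul_assoc]
      _ = b * (z ^ n * a * b ^ n) := by rw [ih]
      _ = (b * z ^ n) * a * b ^ n := by simp only [mul_assoc]
      _ = (z ^ n * b) * a * b ^ n := by rw [h1]
      _ = z ^ n * (b * a) * b ^ n := by simp only [mul_assoc]
      _ = z ^ n * (z * a * b) * b ^ n := by rw [hba]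
      _ = z ^ (n + 1) * a * b ^ (n + 1) := by
        rw [pow_succ z n, pow_succ' b n]
        simp only [mul_assoc]

/-- the power formula in class two -/
theorem mul_pow_class2 {P : Type u} [Group P] (a b z : P) (hba : b * a = z * a * b)
    (hz : ∀ g : P, Commute z g) (n : ℕ) :
    (a * b) ^ n = z ^ (∑ i ∈ Finset.range n, i) * a ^ n * b ^ n := by
  induction n with
  | zero => simp
  | succ n ih =>
    have h1 : a ^ n * z ^ n = z ^ n * a ^ n := ((hz (a ^ n)).pow_left n).eq.symm
    rw [Finset.sum_range_succ]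
    calc (a * b) ^ (n + 1) = (a * b) ^ n * (a * b) := pow_succ _ _
      _ = z ^ (∑ i ∈ Finset.range n, i) * a ^ n * b ^ n * (a * b) := by rw [ih]
      _ = z ^ (∑ i ∈ Finset.range n, i) * a ^ n * (b ^ n * a) * b := by simp only [mul_assoc]
      _ = z ^ (∑ i ∈ Finset.range n, i) * a ^ n * (z ^ n * a * b ^ n) * b := by
        rw [pow_mul_comm' a b z hba hz n]
      _ = z ^ (∑ i ∈ Finset.range n, i) * (a ^ n * z ^ n) * a * b ^ n * b := by
        simp only [mul_assoc]
      _ = z ^ (∑ i ∈ Finset.range n, i) * (z ^ n * a ^ n) * a * b ^ n * b := by rw [h1]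
      _ = z ^ (∑ i ∈ Finset.range n, i + n) * a ^ (n + 1) * b ^ (n + 1) := by
        rw [pow_add, pow_succ a n, pow_succ b n]
        simp only [mul_assoc]

theorem main : PAb.{u} := by
  intro P _ _ r _ hr2 hP N hN hord hcomm
  have hrp : r.Prime := Fact.out
  haveI hNn : N.Normal := ⟨fun n hn g => by
    have h1 := hcomm g n
    have h2 : g * n * g⁻¹ = (g * n * g⁻¹ * n⁻¹) * n := by group
    rw [h2]
    exact mul_mem h1 hn⟩
  have hNc : N ≤ Subgroup.center P :=
    Cfsg.Agent.Lib.Helper63.PFrattini.normal_card_prime_le_center hP N hN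
  have hz : ∀ a b g : P, Commute (b * a * b⁻¹ * a⁻¹) g := by
    intro a b g
    exact ((Subgroup.mem_center_iff.mp (hNc (hcomm b a))) g).symm
  have hzr : ∀ a b : P, (b * a * b⁻¹ * a⁻¹) ^ r = 1 := by
    intro a b
    have h1 : (⟨b * a * b⁻¹ * a⁻¹, hcomm b a⟩ : N) ^ Nat.card ↥N = 1 := pow_card_eq_one'
    rw [hN] at h1
    have h2 := congrArg Subtype.val h1
    simpa using h2
  have hpow : ∀ a b : P, (a * b) ^ r = a ^ r * b ^ r := by
    intro a b
    have hba : b * a = (b * a * b⁻¹ * a⁻¹) * a * b := by group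
    have h1 := mul_pow_class2 a b _ hba (hz a b) r
    have h2 : r ∣ ∑ i ∈ Finset.range r, i := by
      have h3 := Finset.sum_range_id_mul_two r
      have h4 : r ∣ (∑ i ∈ Finset.range r, i) * 2 := by
        rw [h3]
        exact dvd_mul_right r (r - 1)
      have hcop : Nat.Coprime r 2 := (Nat.coprime_primes hrp Nat.prime_two).mpr hr2
      exact hcop.dvd_of_dvd_mul_right h4
    obtain ⟨k, hk⟩ := h2
    rw [h1, hk, pow_mul, hzr a b, one_pow, one_mul]
  have hcen : ∀ b : P, b ^ r ∈ Subgroup.center P := by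
    intro b
    rw [Subgroup.mem_center_iff]
    intro a
    have hba : b * a = (b * a * b⁻¹ * a⁻¹) * a * b := by group
    have h1 := pow_mul_comm' a b _ hba (hz a b) r
    rw [hzr a b, one_mul] at h1
    exact h1.symm
  let φ : P →* P := { toFun := fun x => x ^ r, map_one' := one_pow r, map_mul' := hpow }
  have hker : φ.ker ≤ N := by
    intro x hx
    have hx' : x ^ r = 1 := hx
    by_cases hx1 : x = 1
    · rw [hx1]
      exact one_mem N
    · exact hord x (orderOf_eq_prime hx' hx1)
  have hrange : φ.range ≤ Subgroup.center P := by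
    rintro _ ⟨x, rfl⟩
    exact hcen x
  have hc1 : Nat.card ↥φ.ker ∣ r := by
    rw [← hN]
    exact Subgroup.card_dvd_of_le hker
  have hc2 : Nat.card ↥φ.range ∣ Nat.card ↥(Subgroup.center P) := Subgroup.card_dvd_of_le hrange
  have hc3 : Nat.card ↥φ.ker * Nat.card ↥φ.range = Nat.card P := by
    rw [← Subgroup.index_ker]
    exact Subgroup.card_mul_index _
  have hc4 : Nat.card ↥(Subgroup.center P) * (Subgroup.center P).index = Nat.card P :=
    Subgroup.card_mul_index _
  have hidx : (Subgroup.center P).index ≤ r := by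
    have h5 : Nat.card ↥φ.ker ≤ r := Nat.le_of_dvd hrp.pos hc1
    have h6 : Nat.card ↥φ.range ≤ Nat.card ↥(Subgroup.center P) := Nat.le_of_dvd Nat.card_pos hc2
    have h7 : Nat.card ↥(Subgroup.center P) * (Subgroup.center P).index ≤
        Nat.card ↥(Subgroup.center P) * r := by
      rw [hc4, ← hc3, mul_comm]
      exact Nat.mul_le_mul h6 h5
    exact Nat.le_of_mul_le_mul_left h7 Nat.card_pos
  obtain ⟨n, hn⟩ := hP.index (Subgroup.center P)
  haveI : IsCyclic (P ⧸ Subgroup.center P) := by
    have hcard : Nat.card (P ⧸ Subgroup.center P) = r ^ n := by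
      rw [← Subgroup.index_eq_card, hn]
    rcases Nat.lt_or_ge n 1 with h0 | h1
    · have hn0 : n = 0 := by omega
      rw [hn0, pow_zero] at hcard
      haveI : Subsingleton (P ⧸ Subgroup.center P) := (Nat.card_eq_one_iff_unique.mp hcard).1
      infer_instance
    · have hn1 : n = 1 := by
        by_contra hne
        have h2 : 2 ≤ n := by omega
        have h3 : r ^ 2 ≤ r ^ n := Nat.pow_le_pow_right hrp.pos h2
        rw [← hn] at h3
        have h4 : r * r ≤ r := by
          rw [← sq]
          exact h3.trans hidx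
        have h5 := hrp.one_lt
        nlinarith
      rw [hn1, pow_one] at hcard
      exact isCyclic_of_prime_card hcard
  intro a b
  have hfin : IsMulCommutative P :=
    MonoidHom.isMulCommutative_of_isCyclic_of_ker_le_center (QuotientGroup.mk' (Subgroup.center P))
      (by rw [QuotientGroup.ker_mk'])
  exact hfin.is_comm.comm a b

end Cfsg.Agent.Lib.Helper36.ACPAB
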