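import Mathlib
import Cfsg.Agent.Lib.Helper12.AOStmt

/-!
S4068, piece INV: if commuting nonidentity elements always have the same order, the centralizer
of an involution is commutative of exponent 2.
-/

set_option autoImplicit false

universe u

namespace Cfsg.Agent.Lib.Helper36.AOINV

open Cfsg.Agent.Lib.Helper12.AOStmt

theorem main : Cfsg.Agent.Lib.Helper12.AOStmt.Inv.{u} := by
  intro G _ _ hcent t ht
  have ht1 : t ≠ 1 := by
    rintro rfl
    rw [orderOf_one] at ht
    exact absurd ht (by norm_num)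
  have hsq : ∀ c ∈ Subgroup.centralizer ({t} : Set G), c ^ 2 = 1 := by
    intro c hc
    by_cases hc1 : c = 1
    · rw [hc1, one_pow]
    · have h := hcent t ht1 c hc hc1
      rw [ht] at h
      rw [← h]
      exact pow_orderOf_eq_one c
  have inv_self : ∀ x : G, x ^ 2 = 1 → x⁻¹ = x := fun x hx =>
    inv_eq_of_mul_eq_one_left (by rw [← pow_two]; exact hx)
  refine ⟨⟨⟨?_⟩⟩, hsq⟩
  rintro ⟨a, ha⟩ ⟨b, hb⟩
  apply Subtype.ext
  show a * b = b * a
  have hab := hsq (a * b) (mul_mem ha hb)
  calc a * b = (a * b)⁻¹ := (inv_self _ hab).symm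
    _ = b⁻¹ * a⁻¹ := mul_inv_rev a b
    _ = b * a := by rw [inv_self a (hsq a ha), inv_self b (hsq b hb)]

end Cfsg.Agent.Lib.Helper36.AOINV
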