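import Mathlib
import Cfsg.Agent.Lib.Helper80.BTStmt

/-!
S0997, piece NT2 (pure arithmetic): if `f + e = 2^k + 1`, `1 ≤ e`, `2^k + 1 ∣ 2^b + 1` and
`2^b ≤ (2^k + 1) f (e - 1)`, then `2^b = 2^k`.
-/

set_option autoImplicit false

namespace Cfsg.Agent.Lib.Helper36.BTNT2

theorem main : Cfsg.Agent.Lib.Helper80.BTStmt.NT2 := by
  intro k b e f hfe he hdvd hle
  obtain ⟨y, rfl⟩ : ∃ y, e = y + 1 := ⟨e - 1, by omega⟩
  have ey : y + 1 - 1 = y := by omega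
  rw [ey] at hle
  have hfy : f + y = 2 ^ k := by omega
  have hpos : 0 < 2 ^ b := by positivity
  -- `k ≥ 1`
  have hk : 1 ≤ k := by
    by_contra h
    have hk0 : k = 0 := by omega
    subst hk0
    have h1 : f + y = 1 := by simpa using hfy
    have h2 : f * y = 0 := by
      rcases Nat.eq_zero_or_pos f with h3 | h3
      · rw [h3, zero_mul]
      · have : y = 0 := by omega
        rw [this, mul_zero]
    rw [mul_assoc, h2, mul_zero] at hle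
    omega
  -- AM-GM
  have hAM : 4 * (f * y) ≤ (2 ^ k) ^ 2 := by
    rw [← hfy]
    have h1 : (4 * ((f : ℤ) * y)) ≤ ((f : ℤ) + y) ^ 2 := by nlinarith [sq_nonneg ((f : ℤ) - y)]
    exact_mod_cast h1
  have hA1 : 1 ≤ 2 ^ k := Nat.one_le_two_pow
  have h2 : 2 ^ (b + 2) ≤ 2 ^ (3 * k + 1) := by
    calc 2 ^ (b + 2) = 4 * 2 ^ b := by ring
      _ ≤ 4 * ((2 ^ k + 1) * f * y) := Nat.mul_le_mul_left 4 hle
      _ = (2 ^ k + 1) * (4 * (f * y)) := by ring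
      _ ≤ (2 ^ k + 1) * (2 ^ k) ^ 2 := Nat.mul_le_mul_left _ hAM
      _ ≤ 2 ^ (k + 1) * (2 ^ k) ^ 2 :=
        Nat.mul_le_mul_right _ (by rw [pow_succ]; omega)
      _ = 2 ^ (3 * k + 1) := by ring
  have hb3 : b + 2 ≤ 3 * k + 1 := (Nat.pow_le_pow_iff_right (by norm_num)).mp h2
  obtain ⟨c, r, hr, rfl⟩ : ∃ c r, r < k ∧ b = k * c + r :=
    ⟨b / k, b % k, Nat.mod_lt _ hk, (Nat.div_add_mod b k).symm⟩
  have hc3 : c < 3 := by
    by_contra h
    have h' : 3 ≤ c := not_lt.mp h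
    have h5 : k * 3 ≤ k * c := Nat.mul_le_mul_left k h'
    omega
  have hR : 2 ^ r < 2 ^ k := Nat.pow_lt_pow_right (by norm_num) hr
  have hR1 : 1 ≤ 2 ^ r := Nat.one_le_two_pow
  -- abbreviations
  obtain ⟨A, hA⟩ : ∃ A, 2 ^ k = A + 1 := ⟨2 ^ k - 1, by omega⟩
  have key : ∀ R : ℕ, R < A + 1 → ¬ (A + 1 + 1) ∣ R + 1 := by
    intro R hRl hd
    have := Nat.le_of_dvd (by omega) hd
    omega
  interval_cases c
  · -- `c = 0`
    exfalso
    rw [mul_zero, zero_add] at hdvd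
    rw [hA] at hdvd hR
    exact key _ hR hdvd
  · -- `c = 1`
    rw [mul_one] at hdvd ⊢
    have e1 : 2 ^ (k + r) + 1 + (2 ^ r - 1) = (2 ^ k + 1) * 2 ^ r := by
      rw [pow_add]
      have : 2 ^ k * 2 ^ r + 1 + (2 ^ r - 1) = 2 ^ k * 2 ^ r + 2 ^ r := by omega
      rw [this]
      ring
    have h6 : (2 ^ k + 1) ∣ 2 ^ r - 1 := by
      have h7 : (2 ^ k + 1) ∣ 2 ^ (k + r) + 1 + (2 ^ r - 1) := by
        rw [e1]
        exact dvd_mul_right _ _
      exact (Nat.dvd_add_right hdvd).mp h7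
    have h8 : 2 ^ r - 1 = 0 := Nat.eq_zero_of_dvd_of_lt h6 (by omega)
    have h9 : 2 ^ r = 2 ^ 0 := by
      rw [pow_zero]
      omega
    have h10 : r = 0 := Nat.pow_right_injective (le_refl 2) h9
    rw [h10, add_zero]
  · -- `c = 2`
    exfalso
    have e1 : 2 ^ (k * 2 + r) + 1 = (2 ^ k + 1) * (A * 2 ^ r) + (2 ^ r + 1) := by
      rw [pow_add, pow_mul, hA]
      ring
    rw [e1] at hdvd
    have h6 : (2 ^ k + 1) ∣ 2 ^ r + 1 := (Nat.dvd_add_right (dvd_mul_right _ _)).mp hdvd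
    rw [hA] at h6 hR
    exact key _ hR h6

end Cfsg.Agent.Lib.Helper36.BTNT2
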