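import Mathlib
import Cfsg.Agent.Lib.Helper80.BTStmt

/-!
S0997, piece NT3 (pure arithmetic): if `p ≠ 2`, `q` are distinct primes with
`(p - 1)(p + 1) = 2 q^b g₀` and `g₀ < p - 1`, then `p = 2^m ± 1`.
-/

set_option autoImplicit false

namespace Cfsg.Agent.Lib.Helper36.BTNT3

theorem main : Cfsg.Agent.Lib.Helper80.BTStmt.NT3 := by
  intro p q b g₀ hp hq hpq hp2 heq hg
  obtain ⟨a, ha⟩ : ∃ a, p = 2 * a + 1 := by
    rcases hp.eq_two_or_odd with h | h
    · exact absurd h hp2
    · exact ⟨p / 2, by omega⟩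
  subst ha
  have ha1 : 1 ≤ a := by
    by_contra h
    have h0 : a = 0 := by omega
    subst h0
    exact absurd hp (by norm_num)
  have h1 : q ^ b * g₀ = 2 * a * (a + 1) := by
    have e1 : 2 * a + 1 - 1 = 2 * a := by omega
    rw [e1] at heq
    have e2 : 2 * a * (2 * a + 1 + 1) = 2 * (2 * a * (a + 1)) := by ring
    rw [e2] at heq
    omega
  have hg' : g₀ < 2 * a := by omega
  have hqb : a + 1 < q ^ b := by
    by_contra h
    have h' : q ^ b ≤ a + 1 := not_lt.mp h
    have h2 : q ^ b * g₀ ≤ (a + 1) * g₀ := Nat.mul_le_mul_right g₀ h'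
    have h3 : (a + 1) * g₀ < (a + 1) * (2 * a) := Nat.mul_lt_mul_of_pos_left hg' (by omega)
    have h4 : (a + 1) * (2 * a) = 2 * a * (a + 1) := by ring
    omega
  have hd : q ^ b ∣ 2 * a * (a + 1) := Dvd.intro _ h1
  by_cases hq2 : q = 2
  · subst hq2
    rcases Nat.even_or_odd a with hae | hao
    · -- `a` even
      have hodd : Odd (a + 1) := hae.add_one
      have hc : Nat.Coprime (2 ^ b) (a + 1) :=
        Nat.Coprime.pow_left b (Nat.coprime_two_left.mpr hodd)
      have hd2 : 2 ^ b ∣ 2 * a := hc.dvd_of_dvd_mul_right hd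
      obtain ⟨c, hc'⟩ := hd2
      have hc1 : c = 1 := by
        have hc0 : c ≠ 0 := by
          rintro rfl
          rw [mul_zero] at hc'
          omega
        have hc2 : c < 2 := by
          by_contra h
          have h' : 2 ≤ c := not_lt.mp h
          have h5 : 2 ^ b * 2 ≤ 2 ^ b * c := Nat.mul_le_mul_left _ h'
          omega
        omega
      subst hc1
      rw [mul_one] at hc'
      exact ⟨b, Or.inl (by omega)⟩
    · -- `a` odd
      have hc : Nat.Coprime (2 ^ b) a :=
        Nat.Coprime.pow_left b (Nat.coprime_two_left.mpr hao)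
      have hd' : 2 ^ b ∣ 2 * (a + 1) * a := by
        have e : 2 * (a + 1) * a = 2 * a * (a + 1) := by ring
        rw [e]
        exact hd
      have hd2 : 2 ^ b ∣ 2 * (a + 1) := hc.dvd_of_dvd_mul_right hd'
      obtain ⟨c, hc'⟩ := hd2
      have hc1 : c = 1 := by
        have hc0 : c ≠ 0 := by
          rintro rfl
          rw [mul_zero] at hc'
          omega
        have hc2 : c < 2 := by
          by_contra h
          have h' : 2 ≤ c := not_lt.mp h
          have h5 : 2 ^ b * 2 ≤ 2 ^ b * c := Nat.mul_le_mul_left _ h'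
          omega
        omega
      subst hc1
      rw [mul_one] at hc'
      exact ⟨b, Or.inr (by omega)⟩
  · -- `q` odd: impossible
    exfalso
    have hc2 : Nat.Coprime (q ^ b) 2 :=
      Nat.Coprime.pow_left b ((Nat.coprime_primes hq Nat.prime_two).mpr hq2)
    have hd' : q ^ b ∣ a * (a + 1) := by
      have h5 : q ^ b ∣ 2 * (a * (a + 1)) := by
        rw [← mul_assoc]
        exact hd
      exact hc2.dvd_of_dvd_mul_left h5
    by_cases hqa : q ∣ a
    · have hqa1 : ¬ q ∣ a + 1 := by
        intro h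
        have h6 : q ∣ 1 := (Nat.dvd_add_right hqa).mp h
        exact hq.one_lt.ne' (Nat.dvd_one.mp h6)
      have hc : Nat.Coprime (q ^ b) (a + 1) :=
        Nat.Coprime.pow_left b ((Nat.Prime.coprime_iff_not_dvd hq).mpr hqa1)
      have h7 : q ^ b ∣ a := hc.dvd_of_dvd_mul_right hd'
      have h8 := Nat.le_of_dvd (by omega) h7
      omega
    · have hc : Nat.Coprime (q ^ b) a :=
        Nat.Coprime.pow_left b ((Nat.Prime.coprime_iff_not_dvd hq).mpr hqa)
      have h7 : q ^ b ∣ a + 1 := hc.dvd_of_dvd_mul_left hd'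
      have h8 := Nat.le_of_dvd (by omega) h7
      omega

end Cfsg.Agent.Lib.Helper36.BTNT3
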