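import Cfsg.Agent.Lib.Helper36.ChevWeyl
import Cfsg.Prelude.Def_ChevAutomorphisms

/-!
Braid relations between the elements `n_p(1)` of the fundamental roots, checked by the reflection
engine; compatibility of the reflections with negation of roots.
-/

set_option autoImplicit false

namespace Cfsg.Agent.Lib.Helper36.ChevBraid

open Cfsg Cfsg.Lie Cfsg.Agent.Lib.Helper36.ChevEngine Cfsg.Agent.Lib.Helper36.ChevSound
open Cfsg.Agent.Lib.Helper36.ChevWeyl

/-- the alternating product `a b a b ..` with `k` factors -/
def altProd {M : Type*} [Monoid M] (a b : M) : ℕ → M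
  | 0 => 1
  | k + 1 => a * altProd b a k

/-- the order of the product of two fundamental reflections from the number of bonds -/
def mOf (b : ℤ) : ℕ := if b = 0 then 2 else if b = 1 then 3 else if b = 2 then 4 else 6

/-- the word `n_i n_j n_i ..` with `k` factors -/
def altW (D : ChevalleyDatum) (i j : ℕ) : ℕ → SWord
  | 0 => []
  | k + 1 => nWs D i ++ altW D j i k

/-- the braid relations between `n_{p_i}` and the `n_{p_j}` with `i < j` -/
def braidRow (D : ChevalleyDatum) (T : List ℕ) (i : ℕ) : Bool :=
  allBelow (fun j => Nat.ble j i || checkRel T D.rank D.nroots (altW D i j (mOf (D.bonds i j)))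
    (altW D j i (mOf (D.bonds i j)))) D.rank

/-- compatibility of the reflection `w_i` with negation, and involutivity -/
def negRow (D : ChevalleyDatum) (i : ℕ) : Bool :=
  allBelow (fun s => Nat.beq (D.reflectRoot i (D.neg s)) (D.neg (D.reflectRoot i s)) &&
    (Nat.beq (D.reflectRoot i (D.reflectRoot i s)) s &&
    (Nat.beq (D.neg (D.neg s)) s && Nat.blt (D.neg s) D.nroots))) D.nroots

variable {F : Type*} [Field F]

theorem evalWord_append (t u v : F) (a b : SWord) :
    evalWord t u v (a ++ b) = evalWord t u v a ++ evalWord t u v b := by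
  simp [evalWord]

theorem wordMat_altW (D : ChevalleyDatum) (t u v : F) : ∀ (k i j : ℕ),
    D.wordMat F (evalWord t u v (altW D i j k)) =
      altProd (D.nMat F (D.simple i) 1) (D.nMat F (D.simple j) 1) k := by
  intro k
  induction k with
  | zero => intro i j; simp [altW, altProd, evalWord, ChevalleyDatum.wordMat]
  | succ k ih =>
    intro i j
    simp only [altW, altProd]
    rw [evalWord_append, wordMat_append, wordMat_nWs, ih]

theorem bonds_comm (D : ChevalleyDatum) (i j : ℕ) : D.bonds i j = D.bonds j i := by
  unfold ChevalleyDatum.bonds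
  ring

/-- the braid relations from the checks of all rows -/
theorem braid_of_rows (D : ChevalleyDatum) (T : List ℕ) (hT : TableOK D T)
    (h : ∀ i < D.rank, braidRow D T i = true) (i j : ℕ) (hi : i < D.rank) (hj : j < D.rank)
    (hij : i ≠ j) :
    altProd (D.nMat F (D.simple i) 1) (D.nMat F (D.simple j) 1) (mOf (D.bonds i j)) =
      altProd (D.nMat F (D.simple j) 1) (D.nMat F (D.simple i) 1) (mOf (D.bonds i j)) := by
  have key : ∀ a b : ℕ, a < D.rank → b < D.rank → a < b →
      altProd (D.nMat F (D.simple a) 1) (D.nMat F (D.simple b) 1) (mOf (D.bonds a b)) =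
        altProd (D.nMat F (D.simple b) 1) (D.nMat F (D.simple a) 1) (mOf (D.bonds a b)) := by
    intro a b ha hb hab
    have h1 := allBelow_true _ _ (h a ha) b hb
    have h2 : Nat.ble b a = false := by
      cases hb' : Nat.ble b a
      · rfl
      · have := Nat.le_of_ble_eq_true hb'
        omega
    rw [h2, Bool.false_or] at h1
    have h3 := checkRel_sound D T hT _ _ h1 (0 : F) 0 0
    rw [wordMat_altW, wordMat_altW] at h3
    exact h3
  rcases Nat.lt_or_gt_of_ne hij with hlt | hgt
  · exact key i j hi hj hlt
  · rw [bonds_comm D i j]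
    exact (key j i hj hi hgt).symm

theorem neg_of_rows (D : ChevalleyDatum) (h : ∀ i < D.rank, negRow D i = true) (i : ℕ)
    (hi : i < D.rank) (s : ℕ) (hs : s < D.nroots) :
    D.reflectRoot i (D.neg s) = D.neg (D.reflectRoot i s) ∧
      D.reflectRoot i (D.reflectRoot i s) = s ∧ D.neg (D.neg s) = s ∧ D.neg s < D.nroots := by
  have h1 := allBelow_true _ _ (h i hi) s hs
  simp only [Bool.and_eq_true] at h1
  exact ⟨Nat.eq_of_beq_eq_true h1.1, Nat.eq_of_beq_eq_true h1.2.1, Nat.eq_of_beq_eq_true h1.2.2.1,
    lt_of_blt h1.2.2.2⟩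

end Cfsg.Agent.Lib.Helper36.ChevBraid
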