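import Cfsg.Agent.Lib.Helper36.ChevBraid
import Cfsg.Agent.Lib.Helper36.ChevTabG2
import Cfsg.Agent.Lib.Helper36.ChevTabB2
import Cfsg.Agent.Lib.Helper36.ChevTabD4
import Cfsg.Agent.Lib.Helper36.ChevTabF4
import Cfsg.Agent.Lib.Helper36.ChevTabE6
import Cfsg.Agent.Lib.Helper36.ChevTabE7
import Cfsg.Agent.Lib.Helper36.ChevTabE8

/-!
Braid relations between the `n_p(1)` of the fundamental roots and compatibility of the reflections
with negation, for the seven tabulated Chevalley data.
-/

set_option autoImplicit false

namespace Cfsg.Agent.Lib.Helper36.ChevBraidData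

open Cfsg Cfsg.Lie Cfsg.Agent.Lib.Helper36.ChevEngine Cfsg.Agent.Lib.Helper36.ChevSound Cfsg.Agent.Lib.Helper36.ChevWeyl Cfsg.Agent.Lib.Helper36.ChevBraid

set_option maxRecDepth 100000 in
theorem browG2x0 : braidRow chevG2 ChevTabG2.tab 0 = true := by decide +kernel

set_option maxRecDepth 100000 in
theorem nrowG2x0 : negRow chevG2 0 = true := by decide +kernel

set_option maxRecDepth 100000 in
theorem browG2x1 : braidRow chevG2 ChevTabG2.tab 1 = true := by decide +kernel

set_option maxRecDepth 100000 in
theorem nrowG2x1 : negRow chevG2 1 = true := by decide +kernel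

theorem browsG2 : ∀ i < chevG2.rank, braidRow chevG2 ChevTabG2.tab i = true := by
  intro i hi
  rw [ChevTabG2.rank_eq] at hi
  interval_cases i
  · exact browG2x0
  · exact browG2x1

theorem nrowsG2 : ∀ i < chevG2.rank, negRow chevG2 i = true := by
  intro i hi
  rw [ChevTabG2.rank_eq] at hi
  interval_cases i
  · exact nrowG2x0
  · exact nrowG2x1

set_option maxRecDepth 100000 in
theorem browB2x0 : braidRow chevB2 ChevTabB2.tab 0 = true := by decide +kernel

set_option maxRecDepth 100000 in
theorem nrowB2x0 : negRow chevB2 0 = true := by decide +kernel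

set_option maxRecDepth 100000 in
theorem browB2x1 : braidRow chevB2 ChevTabB2.tab 1 = true := by decide +kernel

set_option maxRecDepth 100000 in
theorem nrowB2x1 : negRow chevB2 1 = true := by decide +kernel

theorem browsB2 : ∀ i < chevB2.rank, braidRow chevB2 ChevTabB2.tab i = true := by
  intro i hi
  rw [ChevTabB2.rank_eq] at hi
  interval_cases i
  · exact browB2x0
  · exact browB2x1

theorem nrowsB2 : ∀ i < chevB2.rank, negRow chevB2 i = true := by
  intro i hi
  rw [ChevTabB2.rank_eq] at hi
  interval_cases i
  · exact nrowB2x0
  · exact nrowB2x1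

set_option maxRecDepth 100000 in
theorem browD4x0 : braidRow chevD4 ChevTabD4.tab 0 = true := by decide +kernel

set_option maxRecDepth 100000 in
theorem nrowD4x0 : negRow chevD4 0 = true := by decide +kernel

set_option maxRecDepth 100000 in
theorem browD4x1 : braidRow chevD4 ChevTabD4.tab 1 = true := by decide +kernel

set_option maxRecDepth 100000 in
theorem nrowD4x1 : negRow chevD4 1 = true := by decide +kernel

set_option maxRecDepth 100000 in
theorem browD4x2 : braidRow chevD4 ChevTabD4.tab 2 = true := by decide +kernel

set_option maxRecDepth 100000 in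
theorem nrowD4x2 : negRow chevD4 2 = true := by decide +kernel

set_option maxRecDepth 100000 in
theorem browD4x3 : braidRow chevD4 ChevTabD4.tab 3 = true := by decide +kernel

set_option maxRecDepth 100000 in
theorem nrowD4x3 : negRow chevD4 3 = true := by decide +kernel

theorem browsD4 : ∀ i < chevD4.rank, braidRow chevD4 ChevTabD4.tab i = true := by
  intro i hi
  rw [ChevTabD4.rank_eq] at hi
  interval_cases i
  · exact browD4x0
  · exact browD4x1
  · exact browD4x2
  · exact browD4x3

theorem nrowsD4 : ∀ i < chevD4.rank, negRow chevD4 i = true := by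
  intro i hi
  rw [ChevTabD4.rank_eq] at hi
  interval_cases i
  · exact nrowD4x0
  · exact nrowD4x1
  · exact nrowD4x2
  · exact nrowD4x3

set_option maxRecDepth 100000 in
theorem browF4x0 : braidRow chevF4 ChevTabF4.tab 0 = true := by decide +kernel

set_option maxRecDepth 100000 in
theorem nrowF4x0 : negRow chevF4 0 = true := by decide +kernel

set_option maxRecDepth 100000 in
theorem browF4x1 : braidRow chevF4 ChevTabF4.tab 1 = true := by decide +kernel

set_option maxRecDepth 100000 in
theorem nrowF4x1 : negRow chevF4 1 = true := by decide +kernel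

set_option maxRecDepth 100000 in
theorem browF4x2 : braidRow chevF4 ChevTabF4.tab 2 = true := by decide +kernel

set_option maxRecDepth 100000 in
theorem nrowF4x2 : negRow chevF4 2 = true := by decide +kernel

set_option maxRecDepth 100000 in
theorem browF4x3 : braidRow chevF4 ChevTabF4.tab 3 = true := by decide +kernel

set_option maxRecDepth 100000 in
theorem nrowF4x3 : negRow chevF4 3 = true := by decide +kernel

theorem browsF4 : ∀ i < chevF4.rank, braidRow chevF4 ChevTabF4.tab i = true := by
  intro i hi
  rw [ChevTabF4.rank_eq] at hi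
  interval_cases i
  · exact browF4x0
  · exact browF4x1
  · exact browF4x2
  · exact browF4x3

theorem nrowsF4 : ∀ i < chevF4.rank, negRow chevF4 i = true := by
  intro i hi
  rw [ChevTabF4.rank_eq] at hi
  interval_cases i
  · exact nrowF4x0
  · exact nrowF4x1
  · exact nrowF4x2
  · exact nrowF4x3

set_option maxRecDepth 100000 in
theorem browE6x0 : braidRow chevE6 ChevTabE6.tab 0 = true := by decide +kernel

set_option maxRecDepth 100000 in
theorem nrowE6x0 : negRow chevE6 0 = true := by decide +kernel

set_option maxRecDepth 100000 in
theorem browE6x1 : braidRow chevE6 ChevTabE6.tab 1 = true := by decide +kernel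

set_option maxRecDepth 100000 in
theorem nrowE6x1 : negRow chevE6 1 = true := by decide +kernel

set_option maxRecDepth 100000 in
theorem browE6x2 : braidRow chevE6 ChevTabE6.tab 2 = true := by decide +kernel

set_option maxRecDepth 100000 in
theorem nrowE6x2 : negRow chevE6 2 = true := by decide +kernel

set_option maxRecDepth 100000 in
theorem browE6x3 : braidRow chevE6 ChevTabE6.tab 3 = true := by decide +kernel

set_option maxRecDepth 100000 in
theorem nrowE6x3 : negRow chevE6 3 = true := by decide +kernel

set_option maxRecDepth 100000 in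
theorem browE6x4 : braidRow chevE6 ChevTabE6.tab 4 = true := by decide +kernel

set_option maxRecDepth 100000 in
theorem nrowE6x4 : negRow chevE6 4 = true := by decide +kernel

set_option maxRecDepth 100000 in
theorem browE6x5 : braidRow chevE6 ChevTabE6.tab 5 = true := by decide +kernel

set_option maxRecDepth 100000 in
theorem nrowE6x5 : negRow chevE6 5 = true := by decide +kernel

theorem browsE6 : ∀ i < chevE6.rank, braidRow chevE6 ChevTabE6.tab i = true := by
  intro i hi
  rw [ChevTabE6.rank_eq] at hi
  interval_cases i
  · exact browE6x0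
  · exact browE6x1
  · exact browE6x2
  · exact browE6x3
  · exact browE6x4
  · exact browE6x5

theorem nrowsE6 : ∀ i < chevE6.rank, negRow chevE6 i = true := by
  intro i hi
  rw [ChevTabE6.rank_eq] at hi
  interval_cases i
  · exact nrowE6x0
  · exact nrowE6x1
  · exact nrowE6x2
  · exact nrowE6x3
  · exact nrowE6x4
  · exact nrowE6x5

set_option maxRecDepth 100000 in
theorem browE7x0 : braidRow chevE7 ChevTabE7.tab 0 = true := by decide +kernel

set_option maxRecDepth 100000 in
theorem nrowE7x0 : negRow chevE7 0 = true := by decide +kernel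

set_option maxRecDepth 100000 in
theorem browE7x1 : braidRow chevE7 ChevTabE7.tab 1 = true := by decide +kernel

set_option maxRecDepth 100000 in
theorem nrowE7x1 : negRow chevE7 1 = true := by decide +kernel

set_option maxRecDepth 100000 in
theorem browE7x2 : braidRow chevE7 ChevTabE7.tab 2 = true := by decide +kernel

set_option maxRecDepth 100000 in
theorem nrowE7x2 : negRow chevE7 2 = true := by decide +kernel

set_option maxRecDepth 100000 in
theorem browE7x3 : braidRow chevE7 ChevTabE7.tab 3 = true := by decide +kernel

set_option maxRecDepth 100000 in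
theorem nrowE7x3 : negRow chevE7 3 = true := by decide +kernel

set_option maxRecDepth 100000 in
theorem browE7x4 : braidRow chevE7 ChevTabE7.tab 4 = true := by decide +kernel

set_option maxRecDepth 100000 in
theorem nrowE7x4 : negRow chevE7 4 = true := by decide +kernel

set_option maxRecDepth 100000 in
theorem browE7x5 : braidRow chevE7 ChevTabE7.tab 5 = true := by decide +kernel

set_option maxRecDepth 100000 in
theorem nrowE7x5 : negRow chevE7 5 = true := by decide +kernel

set_option maxRecDepth 100000 in
theorem browE7x6 : braidRow chevE7 ChevTabE7.tab 6 = true := by decide +kernel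

set_option maxRecDepth 100000 in
theorem nrowE7x6 : negRow chevE7 6 = true := by decide +kernel

theorem browsE7 : ∀ i < chevE7.rank, braidRow chevE7 ChevTabE7.tab i = true := by
  intro i hi
  rw [ChevTabE7.rank_eq] at hi
  interval_cases i
  · exact browE7x0
  · exact browE7x1
  · exact browE7x2
  · exact browE7x3
  · exact browE7x4
  · exact browE7x5
  · exact browE7x6

theorem nrowsE7 : ∀ i < chevE7.rank, negRow chevE7 i = true := by
  intro i hi
  rw [ChevTabE7.rank_eq] at hi
  interval_cases i
  · exact nrowE7x0
  · exact nrowE7x1
  · exact nrowE7x2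
  · exact nrowE7x3
  · exact nrowE7x4
  · exact nrowE7x5
  · exact nrowE7x6

set_option maxRecDepth 100000 in
theorem browE8x0 : braidRow chevE8 ChevTabE8.tab 0 = true := by decide +kernel

set_option maxRecDepth 100000 in
theorem nrowE8x0 : negRow chevE8 0 = true := by decide +kernel

set_option maxRecDepth 100000 in
theorem browE8x1 : braidRow chevE8 ChevTabE8.tab 1 = true := by decide +kernel

set_option maxRecDepth 100000 in
theorem nrowE8x1 : negRow chevE8 1 = true := by decide +kernel

set_option maxRecDepth 100000 in
theorem browE8x2 : braidRow chevE8 ChevTabE8.tab 2 = true := by decide +kernel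

set_option maxRecDepth 100000 in
theorem nrowE8x2 : negRow chevE8 2 = true := by decide +kernel

set_option maxRecDepth 100000 in
theorem browE8x3 : braidRow chevE8 ChevTabE8.tab 3 = true := by decide +kernel

set_option maxRecDepth 100000 in
theorem nrowE8x3 : negRow chevE8 3 = true := by decide +kernel

set_option maxRecDepth 100000 in
theorem browE8x4 : braidRow chevE8 ChevTabE8.tab 4 = true := by decide +kernel

set_option maxRecDepth 100000 in
theorem nrowE8x4 : negRow chevE8 4 = true := by decide +kernel

set_option maxRecDepth 100000 in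
theorem browE8x5 : braidRow chevE8 ChevTabE8.tab 5 = true := by decide +kernel

set_option maxRecDepth 100000 in
theorem nrowE8x5 : negRow chevE8 5 = true := by decide +kernel

set_option maxRecDepth 100000 in
theorem browE8x6 : braidRow chevE8 ChevTabE8.tab 6 = true := by decide +kernel

set_option maxRecDepth 100000 in
theorem nrowE8x6 : negRow chevE8 6 = true := by decide +kernel

set_option maxRecDepth 100000 in
theorem browE8x7 : braidRow chevE8 ChevTabE8.tab 7 = true := by decide +kernel

set_option maxRecDepth 100000 in
theorem nrowE8x7 : negRow chevE8 7 = true := by decide +kernel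

theorem browsE8 : ∀ i < chevE8.rank, braidRow chevE8 ChevTabE8.tab i = true := by
  intro i hi
  rw [ChevTabE8.rank_eq] at hi
  interval_cases i
  · exact browE8x0
  · exact browE8x1
  · exact browE8x2
  · exact browE8x3
  · exact browE8x4
  · exact browE8x5
  · exact browE8x6
  · exact browE8x7

theorem nrowsE8 : ∀ i < chevE8.rank, negRow chevE8 i = true := by
  intro i hi
  rw [ChevTabE8.rank_eq] at hi
  interval_cases i
  · exact nrowE8x0
  · exact nrowE8x1
  · exact nrowE8x2
  · exact nrowE8x3
  · exact nrowE8x4
  · exact nrowE8x5
  · exact nrowE8x6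
  · exact nrowE8x7

/-- the braid relations between the elements `n_p(1)` of two fundamental roots -/
theorem braid {F : Type*} [Field F] (D : ChevalleyDatum)
    (hD : D ∈ [chevG2, chevB2, chevD4, chevF4, chevE6, chevE7, chevE8]) (i j : ℕ)
    (hi : i < D.rank) (hj : j < D.rank) (hij : i ≠ j) :
    altProd (D.nMat F (D.simple i) 1) (D.nMat F (D.simple j) 1) (mOf (D.bonds i j)) =
      altProd (D.nMat F (D.simple j) 1) (D.nMat F (D.simple i) 1) (mOf (D.bonds i j)) := by
  simp only [List.mem_cons, List.mem_nil_iff, or_false] at hD
  rcases hD with rfl | rfl | rfl | rfl | rfl | rfl | rfl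
  · exact braid_of_rows chevG2 ChevTabG2.tab ChevTabG2.tok browsG2 i j hi hj hij
  · exact braid_of_rows chevB2 ChevTabB2.tab ChevTabB2.tok browsB2 i j hi hj hij
  · exact braid_of_rows chevD4 ChevTabD4.tab ChevTabD4.tok browsD4 i j hi hj hij
  · exact braid_of_rows chevF4 ChevTabF4.tab ChevTabF4.tok browsF4 i j hi hj hij
  · exact braid_of_rows chevE6 ChevTabE6.tab ChevTabE6.tok browsE6 i j hi hj hij
  · exact braid_of_rows chevE7 ChevTabE7.tab ChevTabE7.tok browsE7 i j hi hj hij
  · exact braid_of_rows chevE8 ChevTabE8.tab ChevTabE8.tok browsE8 i j hi hj hij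

/-- reflections commute with negation of roots and are involutions; negation is an involution -/
theorem refl_neg (D : ChevalleyDatum)
    (hD : D ∈ [chevG2, chevB2, chevD4, chevF4, chevE6, chevE7, chevE8]) (i : ℕ) (hi : i < D.rank)
    (s : ℕ) (hs : s < D.nroots) :
    D.reflectRoot i (D.neg s) = D.neg (D.reflectRoot i s) ∧
      D.reflectRoot i (D.reflectRoot i s) = s ∧ D.neg (D.neg s) = s ∧ D.neg s < D.nroots := by
  simp only [List.mem_cons, List.mem_nil_iff, or_false] at hD
  rcases hD with rfl | rfl | rfl | rfl | rfl | rfl | rfl
  · exact neg_of_rows chevG2 nrowsG2 i hi s hs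
  · exact neg_of_rows chevB2 nrowsB2 i hi s hs
  · exact neg_of_rows chevD4 nrowsD4 i hi s hs
  · exact neg_of_rows chevF4 nrowsF4 i hi s hs
  · exact neg_of_rows chevE6 nrowsE6 i hi s hs
  · exact neg_of_rows chevE7 nrowsE7 i hi s hs
  · exact neg_of_rows chevE8 nrowsE8 i hi s hs

end Cfsg.Agent.Lib.Helper36.ChevBraidData
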