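import Cfsg.Agent.Lib.Helper36.ChevNGen
import Cfsg.Agent.Lib.Helper36.ChevTabG2
import Cfsg.Agent.Lib.Helper36.ChevTabB2
import Cfsg.Agent.Lib.Helper36.ChevTabF4
import Cfsg.Prelude.Def_LieChev
import Cfsg.Prelude.Def_ChevB2
import Cfsg.Prelude.Def_ChevD4

/-!
Certificates for the generation of the seven tabulated Chevalley groups by `N` and one fundamental
root subgroup of a root that is not long.
-/

set_option autoImplicit false

namespace Cfsg.Agent.Lib.Helper36.ChevNGenOne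

open Cfsg Cfsg.Lie Cfsg.Agent.Lib.Helper36.ChevEngine Cfsg.Agent.Lib.Helper36.ChevSound Cfsg.Agent.Lib.Helper36.ChevWeyl Cfsg.Agent.Lib.Helper36.ChevGen Cfsg.Agent.Lib.Helper36.ChevNGen

/-- a certificate for reaching the roots of type G2 from a fundamental root that is not long -/
def certG2 : List (ℕ × ℕ) := [(4, 0), (8, 1), (9, 0), (3, 1), (2, 0), (1, 1), (5, 0), (6, 1), (10, 0), (11, 1)]

set_option maxRecDepth 100000 in
theorem relG2 : checkRel ChevTabG2.tab chevG2.rank chevG2.nroots [(2, tvar 1), (3, uvar 1)]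
    [(3, uvar 1), (2, tvar 1), (0, [⟨3, 1, 1, 0⟩])] = true := by decide +kernel

set_option maxRecDepth 100000 in
theorem oneG2 : oneGen2OK chevG2 certG2 2 3 0 = true := by decide +kernel

/-- a certificate for reaching the roots of type B2 from a fundamental root that is not long -/
def certB2 : List (ℕ × ℕ) := [(2, 0), (6, 1), (1, 1), (3, 0), (4, 1), (7, 0)]

set_option maxRecDepth 100000 in
theorem relB2 : checkRel ChevTabB2.tab chevB2.rank chevB2.nroots [(1, tvar 1), (2, uvar 1)]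
    [(2, uvar 1), (1, tvar 1), (0, [⟨2, 1, 1, 0⟩])] = true := by decide +kernel

set_option maxRecDepth 100000 in
theorem oneB2 : oneGen2OK chevB2 certB2 1 2 0 = true := by decide +kernel

/-- a certificate for reaching the roots of type D4 from a fundamental root that is not long -/
def certD4 : List (ℕ × ℕ) := [(5, 0), (19, 1), (20, 3), (21, 2), (22, 2), (23, 1), (4, 1), (9, 0), (14, 0), (15, 0), (16, 0), (17, 0), (2, 2), (3, 3), (7, 0), (8, 0), (10, 1), (11, 1), (12, 1), (13, 1), (1, 2), (6, 0), (0, 1), (9, 1), (15, 3), (16, 2), (17, 2), (19, 0), (20, 0), (21, 0), (22, 0), (23, 1), (4, 0), (5, 1), (7, 2), (8, 3), (10, 1), (11, 1), (12, 1), (13, 1), (18, 0), (2, 0), (3, 0), (6, 2), (1, 0), (0, 1), (10, 2), (16, 1), (17, 3), (21, 0), (22, 0), (23, 1), (7, 1), (9, 2), (14, 1), (15, 2), (19, 0), (20, 0), (2, 0), (4, 0), (5, 1), (6, 3), (8, 2), (11, 1), (12, 1), (18, 0), (1, 0), (3, 0), (0, 1), (11, 3), (15, 1), (17, 2), (20, 0), (22,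 0), (23, 1), (8, 1), (9, 3), (14, 1), (16, 2), (19, 0), (21, 0), (3, 0), (4, 0), (5, 1), (6, 2), (7, 2), (10, 1), (13, 1), (18, 0), (1, 0), (2, 0), (0, 1)]

set_option maxRecDepth 100000 in
theorem oneD4 : oneGenOK chevD4 certD4 = true := by decide +kernel

/-- a certificate for reaching the roots of type F4 from a fundamental root that is not long -/
def certF4 : List (ℕ × ℕ) := [(14, 0), (34, 1), (35, 2), (36, 3), (37, 1), (38, 1), (39, 2), (40, 1), (44, 0), (13, 1), (20, 0), (27, 0), (28, 0), (29, 0), (12, 2), (19, 0), (10, 1), (11, 3), (18, 0), (9, 1), (8, 2), (7, 1), (3, 0), (20, 1), (28, 2), (29, 3), (34, 0), (35, 0), (36, 0), (37, 1), (38, 1), (39, 2), (40, 1), (44, 0), (13, 0), (14, 1), (19, 2), (33, 0), (12, 0), (18, 3), (10, 1), (11, 0), (9, 1), (8, 2), (7, 1), (3, 0), (1, 3), (2, 2), (4, 1), (5, 2), (6, 3), (15, 0), (16, 0), (17, 0), (21, 1), (22, 1), (23, 2), (24, 3), (25, 2), (26, 2), (30, 1), (31, 1), (32, 2), (41, 0),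 (42, 0), (43, 0), (45, 1), (46, 2), (47, 3)]

set_option maxRecDepth 100000 in
theorem relF4 : checkRel ChevTabF4.tab chevF4.rank chevF4.nroots [(3, tvar 1), (18, uvar 1)]
    [(18, uvar 1), (3, tvar 1), (0, [⟨2, 1, 1, 0⟩])] = true := by decide +kernel

set_option maxRecDepth 100000 in
theorem oneF4 : oneGen2OK chevF4 certF4 3 18 0 = true := by decide +kernel

/-- a certificate for reaching the roots of type E6 from a fundamental root that is not long -/
def certE6 : List (ℕ × ℕ) := [(15, 0), (57, 2), (58, 3), (59, 4), (60, 5), (61, 1), (62, 1), (63, 1), (64, 3), (65, 3), (66, 4), (67, 2), (68, 2), (69, 2), (70, 3), (71, 1), (14, 2), (29, 0), (42, 0), (43, 0), (44, 0), (45, 0), (50, 0), (51, 0), (52, 0), (53, 0), (54, 0), (55, 0), (13, 3), (28, 0), (32, 2), (39, 2), (40, 2), (41, 2), (47, 1), (48, 1), (49, 1), (10, 1), (12, 4), (21, 0), (24, 1), (25, 3), (27, 0), (31, 2), (34, 3), (37, 3), (38, 3), (46, 1), (9, 1), (11, 5), (20, 0),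 (23, 1), (26, 0), (30, 2), (33, 3), (35, 4), (36, 4), (7, 3), (8, 1), (18, 0), (19, 0), (22, 1), (4, 2), (6, 3), (17, 0), (3, 2), (5, 4), (16, 0), (2, 2), (1, 3), (0, 1), (25, 1), (47, 3), (48, 4), (49, 5), (50, 2), (51, 2), (52, 2), (53, 3), (54, 3), (55, 4), (61, 0), (62, 0), (63, 0), (64, 0), (65, 0), (66, 0), (67, 2), (68, 2), (69, 2), (70, 3), (71, 1), (24, 3), (32, 1), (39, 1), (40, 1), (41, 1), (43, 1), (44, 1), (45, 1), (58, 0), (59, 0), (60, 0), (21, 2), (23, 4), (28, 1), (29, 3), (31, 1), (34, 3), (37, 3), (38, 3), (42, 2), (57, 0), (10, 0), (13, 0), (14, 0), (15, 2), (20, 2), (22, 5), (27, 1), (30, 1), (33, 3), (35, 4), (36, 4), (56, 0), (9, 0), (12, 0), (18, 3), (19, 2), (26, 1), (7, 0), (8, 0), (11, 0), (17, 3), (4, 2), (6, 0), (16, 4), (3, 2), (5, 0), (2, 2), (1, 3), (0, 1), (29, 2), (43, 3), (44, 4), (45, 5), (50, 1), (51, 1), (52, 1), (53, 3), (54, 3), (55, 4), (57, 0), (58, 0), (59, 0), (60, 0), (61, 0), (62, 0),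 (63, 0), (64, 0), (65, 0), (66, 0), (67, 2), (68, 2), (69, 2), (70, 3), (71, 1), (14, 0), (15, 2), (28, 3), (32, 2), (39, 2), (40, 2), (41, 2), (47, 1), (48, 1), (49, 1), (56, 0), (13, 0), (21, 1), (24, 1), (25, 3), (27, 4), (31, 2), (34, 3), (37, 3), (38, 3), (46, 1), (10, 0), (12, 0), (20, 1), (23, 1), (26, 5), (30, 2), (33, 3), (35, 4), (36, 4), (9, 0), (11, 0), (18, 3), (19, 1), (22, 1), (7, 0), (8, 0), (17, 3), (4, 2), (6, 0), (16, 4), (3, 2), (5, 0), (2, 2), (1, 3), (0, 1), (32, 3), (40, 4), (41, 5), (43, 2), (44, 2), (45, 2), (47, 1), (48, 1), (49, 1), (50, 1), (51, 1), (52, 1), (53, 3), (54, 3), (55, 4), (58, 0), (59, 0), (60, 0), (61, 0), (62, 0), (63, 0), (64, 0), (65, 0), (66, 0), (67, 2), (68, 2), (69, 2), (70, 3), (71, 1), (24, 1), (25, 3), (28, 2), (29, 3), (31, 4), (34, 3), (37, 3), (38, 3), (42, 2), (46, 1), (57, 0), (13, 0), (14, 0), (15, 2), (21, 1), (23, 1), (27, 2), (30, 5), (33, 3), (35, 4), (36, 4), (56, 0),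 (10, 0), (12, 0), (20, 1), (22, 1), (26, 2), (9, 0), (11, 0), (18, 3), (19, 1), (7, 0), (8, 0), (17, 3), (4, 2), (6, 0), (16, 4), (3, 2), (5, 0), (2, 2), (1, 3), (0, 1), (34, 4), (38, 5), (40, 3), (41, 3), (44, 2), (45, 2), (48, 1), (49, 1), (51, 1), (52, 1), (53, 3), (54, 3), (55, 4), (59, 0), (60, 0), (62, 0), (63, 0), (64, 0), (65, 0), (66, 0), (67, 2), (68, 2), (69, 2), (70, 3), (71, 1), (31, 3), (32, 4), (33, 5), (35, 4), (36, 4), (39, 3), (43, 2), (47, 1), (50, 1), (58, 0), (61, 0), (23, 1), (24, 1), (25, 3), (27, 2), (28, 2), (29, 3), (30, 3), (42, 2), (46, 1), (57, 0), (12, 0), (13, 0), (14, 0), (15, 2), (20, 1), (21, 1), (22, 1), (26, 2), (56, 0), (9, 0), (10, 0), (11, 0), (18, 3), (19, 1), (7, 0), (8, 0), (17, 3), (4, 2), (6, 0), (16, 4), (3, 2), (5, 0), (2, 2), (1, 3), (0, 1), (35, 5), (38, 4), (41, 3), (45, 2), (49, 1), (52, 1), (54, 3), (55, 4), (60, 0), (63, 0), (65, 0), (66, 0), (68, 2), (69, 2), (70, 3), (71, 1), (33,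 4), (34, 5), (37, 4), (40, 3), (44, 2), (48, 1), (51, 1), (53, 3), (59, 0), (62, 0), (64, 0), (67, 2), (30, 3), (31, 3), (32, 4), (39, 3), (43, 2), (47, 1), (50, 1), (58, 0), (61, 0), (22, 1), (23, 1), (24, 1), (25, 3), (26, 2), (27, 2), (28, 2), (29, 3), (42, 2), (46, 1), (57, 0), (11, 0), (12, 0), (13, 0), (14, 0), (15, 2), (19, 1), (20, 1), (21, 1), (56, 0), (8, 0), (9, 0), (10, 0), (17, 3), (18, 3), (6, 0), (7, 0), (16, 4), (3, 2), (4, 2), (5, 0), (2, 2), (1, 3), (0, 1)]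

set_option maxRecDepth 100000 in
theorem oneE6 : oneGenOK chevE6 certE6 = true := by decide +kernel

/-- a certificate for reaching the roots of type E7 from a fundamental root that is not long -/
def certE7 : List (ℕ × ℕ) := [(32, 0), (94, 2), (95, 3), (96, 4), (97, 5), (98, 6), (99, 1), (100, 1), (101, 1), (102, 1), (103, 3), (104, 3), (105, 3), (106, 4), (107, 4), (108, 5), (109, 2), (110, 2), (111, 2), (112, 2), (113, 2), (114, 2), (115, 3), (116, 3), (117, 3), (118, 4), (119, 1), (120, 1), (121, 1), (122, 1), (123, 3), (124, 2), (125, 0), (31, 2), (52, 0), (73, 0), (74, 0), (75, 0), (76, 0), (77, 0), (83, 0), (84, 0), (85, 0), (86, 0), (87, 0), (88, 0), (89, 0), (90, 0), (91, 0), (92, 0), (30, 3), (51, 0), (56, 2), (69, 2), (70, 2), (71, 2), (72, 2), (79, 1), (80, 1), (81, 1), (82, 1), (26, 1), (29, 4), (42, 0), (46, 1), (47, 3), (50, 0), (55, 2), (59, 3), (66, 3), (67, 3), (68, 3), (78, 1), (25, 1), (28, 5), (41, 0), (45, 1),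 (49, 0), (54, 2), (58, 3), (61, 4), (64, 4), (65, 4), (22, 3), (24, 1), (27, 6), (38, 0), (40, 0), (44, 1), (48, 0), (53, 2), (57, 3), (60, 4), (62, 5), (63, 5), (16, 2), (21, 3), (23, 1), (37, 0), (39, 0), (43, 1), (15, 2), (19, 4), (20, 3), (35, 0), (36, 0), (13, 2), (14, 2), (18, 4), (34, 0), (10, 3), (12, 2), (17, 5), (33, 0), (6, 1), (9, 3), (11, 2), (5, 1), (8, 3), (4, 1), (7, 4), (3, 1), (2, 3), (1, 2), (0, 0), (47, 1), (79, 3), (80, 4), (81, 5), (82, 6), (83, 2), (84, 2), (85, 2), (86, 2), (87, 3), (88, 3), (89, 3), (90, 4), (91, 4), (92, 5), (99, 0), (100, 0), (101, 0), (102, 0), (103, 0), (104, 0), (105, 0), (106, 0), (107, 0), (108, 0), (109, 2), (110, 2), (111, 2), (112, 2), (113, 2), (114, 2), (115, 3), (116, 3), (117, 3), (118, 4), (119, 1), (120, 1), (121, 1), (122, 1), (123, 3), (124, 2), (125, 0), (46, 3), (56, 1), (69, 1), (70, 1), (71, 1), (72, 1), (74, 1), (75, 1), (76, 1), (77, 1), (95, 0), (96, 0), (97, 0), (98,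 0), (42, 2), (45, 4), (51, 1), (52, 3), (55, 1), (59, 3), (66, 3), (67, 3), (68, 3), (73, 2), (94, 0), (26, 0), (30, 0), (31, 0), (32, 2), (41, 2), (44, 5), (50, 1), (54, 1), (58, 3), (61, 4), (64, 4), (65, 4), (93, 0), (25, 0), (29, 0), (38, 3), (40, 2), (43, 6), (49, 1), (53, 1), (57, 3), (60, 4), (62, 5), (63, 5), (22, 0), (24, 0), (28, 0), (37, 3), (39, 2), (48, 1), (16, 2), (21, 0), (23, 0), (27, 0), (35, 4), (36, 3), (15, 2), (19, 0), (20, 0), (34, 4), (13, 2), (14, 2), (18, 0), (33, 5), (10, 3), (12, 2), (17, 0), (6, 1), (9, 3), (11, 2), (5, 1), (8, 3), (4, 1), (7, 4), (3, 1), (2, 3), (1, 2), (0, 0), (52, 2), (74, 3), (75, 4), (76, 5), (77, 6), (83, 1), (84, 1), (85, 1), (86, 1), (87, 3), (88, 3), (89, 3), (90, 4), (91, 4), (92, 5), (94, 0), (95, 0), (96, 0), (97, 0), (98, 0), (99, 0), (100, 0), (101, 0), (102, 0), (103, 0), (104, 0), (105, 0), (106, 0), (107, 0), (108, 0), (109, 2), (110, 2), (111, 2), (112, 2), (113, 2),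 (114, 2), (115, 3), (116, 3), (117, 3), (118, 4), (119, 1), (120, 1), (121, 1), (122, 1), (123, 3), (124, 2), (125, 0), (31, 0), (32, 2), (51, 3), (56, 2), (69, 2), (70, 2), (71, 2), (72, 2), (79, 1), (80, 1), (81, 1), (82, 1), (93, 0), (30, 0), (42, 1), (46, 1), (47, 3), (50, 4), (55, 2), (59, 3), (66, 3), (67, 3), (68, 3), (78, 1), (26, 0), (29, 0), (41, 1), (45, 1), (49, 5), (54, 2), (58, 3), (61, 4), (64, 4), (65, 4), (25, 0), (28, 0), (38, 3), (40, 1), (44, 1), (48, 6), (53, 2), (57, 3), (60, 4), (62, 5), (63, 5), (22, 0), (24, 0), (27, 0), (37, 3), (39, 1), (43, 1), (16, 2), (21, 0), (23, 0), (35, 4), (36, 3), (15, 2), (19, 0), (20, 0), (34, 4), (13, 2), (14, 2), (18, 0), (33, 5), (10, 3), (12, 2), (17, 0), (6, 1), (9, 3), (11, 2), (5, 1), (8, 3), (4, 1), (7, 4), (3, 1), (2, 3), (1, 2), (0, 0), (56, 3), (70, 4), (71, 5), (72, 6), (74, 2), (75, 2), (76, 2), (77, 2), (79, 1), (80, 1), (81, 1), (82, 1), (83, 1), (84, 1), (85, 1),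 (86, 1), (87, 3), (88, 3), (89, 3), (90, 4), (91, 4), (92, 5), (95, 0), (96, 0), (97, 0), (98, 0), (99, 0), (100, 0), (101, 0), (102, 0), (103, 0), (104, 0), (105, 0), (106, 0), (107, 0), (108, 0), (109, 2), (110, 2), (111, 2), (112, 2), (113, 2), (114, 2), (115, 3), (116, 3), (117, 3), (118, 4), (119, 1), (120, 1), (121, 1), (122, 1), (123, 3), (124, 2), (125, 0), (46, 1), (47, 3), (51, 2), (52, 3), (55, 4), (59, 3), (66, 3), (67, 3), (68, 3), (73, 2), (78, 1), (94, 0), (30, 0), (31, 0), (32, 2), (42, 1), (45, 1), (50, 2), (54, 5), (58, 3), (61, 4), (64, 4), (65, 4), (93, 0), (26, 0), (29, 0), (41, 1), (44, 1), (49, 2), (53, 6), (57, 3), (60, 4), (62, 5), (63, 5), (25, 0), (28, 0), (38, 3), (40, 1), (43, 1), (48, 2), (22, 0), (24, 0), (27, 0), (37, 3), (39, 1), (16, 2), (21, 0), (23, 0), (35, 4), (36, 3), (15, 2), (19, 0), (20, 0), (34, 4), (13, 2), (14, 2), (18, 0), (33, 5), (10, 3), (12, 2), (17, 0), (6, 1), (9, 3), (11, 2), (5,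 1), (8, 3), (4, 1), (7, 4), (3, 1), (2, 3), (1, 2), (0, 0), (59, 4), (67, 5), (68, 6), (70, 3), (71, 3), (72, 3), (75, 2), (76, 2), (77, 2), (80, 1), (81, 1), (82, 1), (84, 1), (85, 1), (86, 1), (87, 3), (88, 3), (89, 3), (90, 4), (91, 4), (92, 5), (96, 0), (97, 0), (98, 0), (100, 0), (101, 0), (102, 0), (103, 0), (104, 0), (105, 0), (106, 0), (107, 0), (108, 0), (109, 2), (110, 2), (111, 2), (112, 2), (113, 2), (114, 2), (115, 3), (116, 3), (117, 3), (118, 4), (119, 1), (120, 1), (121, 1), (122, 1), (123, 3), (124, 2), (125, 0), (55, 3), (56, 4), (58, 5), (61, 4), (64, 4), (65, 4), (69, 3), (74, 2), (79, 1), (83, 1), (95, 0), (99, 0), (45, 1), (46, 1), (47, 3), (50, 2), (51, 2), (52, 3), (54, 3), (57, 6), (60, 4), (62, 5), (63, 5), (73, 2), (78, 1), (94, 0), (29, 0), (30, 0), (31, 0), (32, 2), (41, 1), (42, 1), (44, 1), (49, 2), (53, 3), (93, 0), (25, 0), (26, 0), (28, 0), (38, 3), (40, 1), (43, 1), (48, 2), (22, 0), (24, 0), (27,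 0), (37, 3), (39, 1), (16, 2), (21, 0), (23, 0), (35, 4), (36, 3), (15, 2), (19, 0), (20, 0), (34, 4), (13, 2), (14, 2), (18, 0), (33, 5), (10, 3), (12, 2), (17, 0), (6, 1), (9, 3), (11, 2), (5, 1), (8, 3), (4, 1), (7, 4), (3, 1), (2, 3), (1, 2), (0, 0), (61, 5), (65, 6), (67, 4), (68, 4), (71, 3), (72, 3), (76, 2), (77, 2), (81, 1), (82, 1), (85, 1), (86, 1), (88, 3), (89, 3), (90, 4), (91, 4), (92, 5), (97, 0), (98, 0), (101, 0), (102, 0), (104, 0), (105, 0), (106, 0), (107, 0), (108, 0), (110, 2), (111, 2), (112, 2), (113, 2), (114, 2), (115, 3), (116, 3), (117, 3), (118, 4), (119, 1), (120, 1), (121, 1), (122, 1), (123, 3), (124, 2), (125, 0), (58, 4), (59, 5), (60, 6), (62, 5), (63, 5), (66, 4), (70, 3), (75, 2), (80, 1), (84, 1), (87, 3), (96, 0), (100, 0), (103, 0), (109, 2), (54, 3), (55, 3), (56, 4), (57, 4), (69, 3), (74, 2), (79, 1), (83, 1), (95, 0), (99, 0), (44, 1), (45, 1), (46, 1), (47, 3), (49, 2), (50, 2), (51, 2),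 (52, 3), (53, 3), (73, 2), (78, 1), (94, 0), (28, 0), (29, 0), (30, 0), (31, 0), (32, 2), (40, 1), (41, 1), (42, 1), (43, 1), (48, 2), (93, 0), (24, 0), (25, 0), (26, 0), (27, 0), (37, 3), (38, 3), (39, 1), (21, 0), (22, 0), (23, 0), (35, 4), (36, 3), (15, 2), (16, 2), (19, 0), (20, 0), (34, 4), (13, 2), (14, 2), (18, 0), (33, 5), (10, 3), (12, 2), (17, 0), (6, 1), (9, 3), (11, 2), (5, 1), (8, 3), (4, 1), (7, 4), (3, 1), (2, 3), (1, 2), (0, 0), (62, 6), (65, 5), (68, 4), (72, 3), (77, 2), (82, 1), (86, 1), (89, 3), (91, 4), (92, 5), (98, 0), (102, 0), (105, 0), (107, 0), (108, 0), (111, 2), (113, 2), (114, 2), (116, 3), (117, 3), (118, 4), (120, 1), (121, 1), (122, 1), (123, 3), (124, 2), (125, 0), (60, 5), (61, 6), (64, 5), (67, 4), (71, 3), (76, 2), (81, 1), (85, 1), (88, 3), (90, 4), (97, 0), (101, 0), (104, 0), (106, 0), (110, 2), (112, 2), (115, 3), (119, 1), (57, 4), (58, 4), (59, 5), (66, 4), (70, 3), (75, 2), (80, 1), (84,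 1), (87, 3), (96, 0), (100, 0), (103, 0), (109, 2), (53, 3), (54, 3), (55, 3), (56, 4), (69, 3), (74, 2), (79, 1), (83, 1), (95, 0), (99, 0), (43, 1), (44, 1), (45, 1), (46, 1), (47, 3), (48, 2), (49, 2), (50, 2), (51, 2), (52, 3), (73, 2), (78, 1), (94, 0), (27, 0), (28, 0), (29, 0), (30, 0), (31, 0), (32, 2), (39, 1), (40, 1), (41, 1), (42, 1), (93, 0), (23, 0), (24, 0), (25, 0), (26, 0), (36, 3), (37, 3), (38, 3), (20, 0), (21, 0), (22, 0), (34, 4), (35, 4), (14, 2), (15, 2), (16, 2), (18, 0), (19, 0), (33, 5), (12, 2), (13, 2), (17, 0), (9, 3), (10, 3), (11, 2), (5, 1), (6, 1), (8, 3), (4, 1), (7, 4), (3, 1), (2, 3), (1, 2), (0, 0)]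

set_option maxRecDepth 100000 in
theorem oneE7 : oneGenOK chevE7 certE7 = true := by decide +kernel

/-- a certificate for reaching the roots of type E8 from a fundamental root that is not long -/
def certE8 : List (ℕ × ℕ) := [(77, 0), (163, 2), (164, 3), (165, 4), (166, 5), (167, 6), (168, 7), (169, 1), (170, 1), (171, 1), (172, 1), (173, 1), (174, 3), (175, 3), (176, 3), (177, 3), (178, 4), (179, 4), (180, 4), (181, 5), (182, 5), (183, 6), (184, 2), (185, 2), (186, 2), (187, 2), (188, 2), (189, 2), (190, 2), (191, 2), (192, 2), (193, 2), (194, 3), (195, 3), (196, 3), (197, 3), (198, 3), (199, 3), (200, 4), (201, 4), (202, 4), (203, 5), (204, 1), (205, 1), (206, 1), (207, 1), (208, 1), (209, 1), (210, 1), (211, 1), (212, 1), (213, 1), (214, 3), (215, 3), (216, 3), (217, 3), (218, 4), (219, 2), (220, 2), (221, 2), (222, 2), (223, 2), (224, 3), (225, 1), (226, 0), (227, 0), (228, 0), (229, 0), (230, 0), (231, 0), (232, 2), (233, 0),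 (234, 1), (235, 3), (236, 4), (237, 5), (238, 6), (239, 7), (76, 2), (104, 0), (135, 0), (136, 0), (137, 0), (138, 0), (139, 0), (140, 0), (147, 0), (148, 0), (149, 0), (150, 0), (151, 0), (152, 0), (153, 0), (154, 0), (155, 0), (156, 0), (157, 0), (158, 0), (159, 0), (160, 0), (161, 0), (75, 3), (103, 0), (109, 2), (130, 2), (131, 2), (132, 2), (133, 2), (134, 2), (142, 1), (143, 1), (144, 1), (145, 1), (146, 1), (70, 1), (74, 4), (92, 0), (97, 1), (98, 3), (102, 0), (108, 2), (113, 3), (126, 3), (127, 3), (128, 3), (129, 3), (141, 1), (69, 1), (73, 5), (91, 0), (96, 1), (101, 0), (107, 2), (112, 3), (116, 4), (123, 4), (124, 4), (125, 4), (65, 3), (68, 1), (72, 6), (87, 0), (90, 0), (95, 1), (100, 0), (106, 2), (111, 3), (115, 4), (118, 5), (121, 5), (122, 5), (55, 2), (64, 3), (67, 1), (71, 7), (86, 0), (89, 0), (94, 1), (99, 0), (105, 2), (110, 3), (114, 4), (117, 5), (119, 6), (120, 6), (54, 2), (61, 4), (63, 3), (66, 1), (83,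 0), (85, 0), (88, 0), (93, 1), (51, 2), (53, 2), (60, 4), (62, 3), (82, 0), (84, 0), (45, 3), (50, 2), (52, 2), (58, 5), (59, 4), (80, 0), (81, 0), (35, 1), (44, 3), (48, 2), (49, 2), (57, 5), (79, 0), (34, 1), (42, 3), (43, 3), (47, 2), (56, 6), (78, 0), (32, 1), (33, 1), (39, 4), (41, 3), (46, 2), (29, 1), (31, 1), (38, 4), (40, 3), (25, 3), (28, 1), (30, 1), (37, 4), (20, 2), (24, 3), (27, 1), (36, 5), (13, 0), (19, 2), (23, 3), (26, 1), (12, 0), (18, 2), (22, 3), (11, 0), (17, 2), (21, 4), (10, 0), (16, 2), (9, 0), (15, 3), (8, 0), (14, 1), (6, 0), (7, 2), (5, 1), (4, 3), (3, 4), (2, 5), (1, 6), (0, 7), (98, 1), (142, 3), (143, 4), (144, 5), (145, 6), (146, 7), (147, 2), (148, 2), (149, 2), (150, 2), (151, 2), (152, 3), (153, 3), (154, 3), (155, 3), (156, 4), (157, 4), (158, 4), (159, 5), (160, 5), (161, 6), (169, 0), (170, 0), (171, 0), (172, 0), (173, 0), (174, 0), (175, 0), (176, 0), (177, 0), (178, 0), (179, 0), (180, 0),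 (181, 0), (182, 0), (183, 0), (184, 2), (185, 2), (186, 2), (187, 2), (188, 2), (189, 2), (190, 2), (191, 2), (192, 2), (193, 2), (194, 3), (195, 3), (196, 3), (197, 3), (198, 3), (199, 3), (200, 4), (201, 4), (202, 4), (203, 5), (204, 1), (205, 1), (206, 1), (207, 1), (208, 1), (209, 1), (210, 1), (211, 1), (212, 1), (213, 1), (214, 3), (215, 3), (216, 3), (217, 3), (218, 4), (219, 2), (220, 2), (221, 2), (222, 2), (223, 2), (224, 3), (225, 1), (226, 0), (227, 0), (228, 0), (229, 0), (230, 0), (231, 0), (232, 2), (233, 0), (234, 1), (235, 3), (236, 4), (237, 5), (238, 6), (239, 7), (97, 3), (109, 1), (130, 1), (131, 1), (132, 1), (133, 1), (134, 1), (136, 1), (137, 1), (138, 1), (139, 1), (140, 1), (164, 0), (165, 0), (166, 0), (167, 0), (168, 0), (92, 2), (96, 4), (103, 1), (104, 3), (108, 1), (113, 3), (126, 3), (127, 3), (128, 3), (129, 3), (135, 2), (163, 0), (70, 0), (75, 0), (76, 0), (77, 2), (91, 2), (95, 5), (102, 1), (107,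 1), (112, 3), (116, 4), (123, 4), (124, 4), (125, 4), (162, 0), (69, 0), (74, 0), (87, 3), (90, 2), (94, 6), (101, 1), (106, 1), (111, 3), (115, 4), (118, 5), (121, 5), (122, 5), (65, 0), (68, 0), (73, 0), (86, 3), (89, 2), (93, 7), (100, 1), (105, 1), (110, 3), (114, 4), (117, 5), (119, 6), (120, 6), (55, 2), (64, 0), (67, 0), (72, 0), (83, 4), (85, 3), (88, 2), (99, 1), (54, 2), (61, 0), (63, 0), (66, 0), (71, 0), (82, 4), (84, 3), (51, 2), (53, 2), (60, 0), (62, 0), (80, 5), (81, 4), (45, 3), (50, 2), (52, 2), (58, 0), (59, 0), (79, 5), (35, 1), (44, 3), (48, 2), (49, 2), (57, 0), (78, 6), (34, 1), (42, 3), (43, 3), (47, 2), (56, 0), (32, 1), (33, 1), (39, 4), (41, 3), (46, 2), (29, 1), (31, 1), (38, 4), (40, 3), (25, 3), (28, 1), (30, 1), (37, 4), (20, 2), (24, 3), (27, 1), (36, 5), (13, 0), (19, 2), (23, 3), (26, 1), (12, 0), (18, 2), (22, 3), (11, 0), (17, 2), (21, 4), (10, 0), (16, 2), (9, 0), (15, 3), (8, 0), (14, 1), (6,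 0), (7, 2), (5, 1), (4, 3), (3, 4), (2, 5), (1, 6), (0, 7), (104, 2), (136, 3), (137, 4), (138, 5), (139, 6), (140, 7), (147, 1), (148, 1), (149, 1), (150, 1), (151, 1), (152, 3), (153, 3), (154, 3), (155, 3), (156, 4), (157, 4), (158, 4), (159, 5), (160, 5), (161, 6), (163, 0), (164, 0), (165, 0), (166, 0), (167, 0), (168, 0), (169, 0), (170, 0), (171, 0), (172, 0), (173, 0), (174, 0), (175, 0), (176, 0), (177, 0), (178, 0), (179, 0), (180, 0), (181, 0), (182, 0), (183, 0), (184, 2), (185, 2), (186, 2), (187, 2), (188, 2), (189, 2), (190, 2), (191, 2), (192, 2), (193, 2), (194, 3), (195, 3), (196, 3), (197, 3), (198, 3), (199, 3), (200, 4), (201, 4), (202, 4), (203, 5), (204, 1), (205, 1), (206, 1), (207, 1), (208, 1), (209, 1), (210, 1), (211, 1), (212, 1), (213, 1), (214, 3), (215, 3), (216, 3), (217, 3), (218, 4), (219, 2), (220, 2), (221, 2), (222, 2), (223, 2), (224, 3), (225, 1), (226, 0), (227, 0), (228, 0), (229, 0), (230,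 0), (231, 0), (232, 2), (233, 0), (234, 1), (235, 3), (236, 4), (237, 5), (238, 6), (239, 7), (76, 0), (77, 2), (103, 3), (109, 2), (130, 2), (131, 2), (132, 2), (133, 2), (134, 2), (142, 1), (143, 1), (144, 1), (145, 1), (146, 1), (162, 0), (75, 0), (92, 1), (97, 1), (98, 3), (102, 4), (108, 2), (113, 3), (126, 3), (127, 3), (128, 3), (129, 3), (141, 1), (70, 0), (74, 0), (91, 1), (96, 1), (101, 5), (107, 2), (112, 3), (116, 4), (123, 4), (124, 4), (125, 4), (69, 0), (73, 0), (87, 3), (90, 1), (95, 1), (100, 6), (106, 2), (111, 3), (115, 4), (118, 5), (121, 5), (122, 5), (65, 0), (68, 0), (72, 0), (86, 3), (89, 1), (94, 1), (99, 7), (105, 2), (110, 3), (114, 4), (117, 5), (119, 6), (120, 6), (55, 2), (64, 0), (67, 0), (71, 0), (83, 4), (85, 3), (88, 1), (93, 1), (54, 2), (61, 0), (63, 0), (66, 0), (82, 4), (84, 3), (51, 2), (53, 2), (60, 0), (62, 0), (80, 5), (81, 4), (45, 3), (50, 2), (52, 2), (58, 0), (59, 0), (79, 5), (35, 1),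 (44, 3), (48, 2), (49, 2), (57, 0), (78, 6), (34, 1), (42, 3), (43, 3), (47, 2), (56, 0), (32, 1), (33, 1), (39, 4), (41, 3), (46, 2), (29, 1), (31, 1), (38, 4), (40, 3), (25, 3), (28, 1), (30, 1), (37, 4), (20, 2), (24, 3), (27, 1), (36, 5), (13, 0), (19, 2), (23, 3), (26, 1), (12, 0), (18, 2), (22, 3), (11, 0), (17, 2), (21, 4), (10, 0), (16, 2), (9, 0), (15, 3), (8, 0), (14, 1), (6, 0), (7, 2), (5, 1), (4, 3), (3, 4), (2, 5), (1, 6), (0, 7), (109, 3), (131, 4), (132, 5), (133, 6), (134, 7), (136, 2), (137, 2), (138, 2), (139, 2), (140, 2), (142, 1), (143, 1), (144, 1), (145, 1), (146, 1), (147, 1), (148, 1), (149, 1), (150, 1), (151, 1), (152, 3), (153, 3), (154, 3), (155, 3), (156, 4), (157, 4), (158, 4), (159, 5), (160, 5), (161, 6), (164, 0), (165, 0), (166, 0), (167, 0), (168, 0), (169, 0), (170, 0), (171, 0), (172, 0), (173, 0), (174, 0), (175, 0), (176, 0), (177, 0), (178, 0), (179, 0), (180, 0), (181, 0), (182, 0), (183,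 0), (184, 2), (185, 2), (186, 2), (187, 2), (188, 2), (189, 2), (190, 2), (191, 2), (192, 2), (193, 2), (194, 3), (195, 3), (196, 3), (197, 3), (198, 3), (199, 3), (200, 4), (201, 4), (202, 4), (203, 5), (204, 1), (205, 1), (206, 1), (207, 1), (208, 1), (209, 1), (210, 1), (211, 1), (212, 1), (213, 1), (214, 3), (215, 3), (216, 3), (217, 3), (218, 4), (219, 2), (220, 2), (221, 2), (222, 2), (223, 2), (224, 3), (225, 1), (226, 0), (227, 0), (228, 0), (229, 0), (230, 0), (231, 0), (232, 2), (233, 0), (234, 1), (235, 3), (236, 4), (237, 5), (238, 6), (239, 7), (97, 1), (98, 3), (103, 2), (104, 3), (108, 4), (113, 3), (126, 3), (127, 3), (128, 3), (129, 3), (135, 2), (141, 1), (163, 0), (75, 0), (76, 0), (77, 2), (92, 1), (96, 1), (102, 2), (107, 5), (112, 3), (116, 4), (123, 4), (124, 4), (125, 4), (162, 0), (70, 0), (74, 0), (91, 1), (95, 1), (101, 2), (106, 6), (111, 3), (115, 4), (118, 5), (121, 5), (122, 5), (69, 0), (73, 0), (87,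 3), (90, 1), (94, 1), (100, 2), (105, 7), (110, 3), (114, 4), (117, 5), (119, 6), (120, 6), (65, 0), (68, 0), (72, 0), (86, 3), (89, 1), (93, 1), (99, 2), (55, 2), (64, 0), (67, 0), (71, 0), (83, 4), (85, 3), (88, 1), (54, 2), (61, 0), (63, 0), (66, 0), (82, 4), (84, 3), (51, 2), (53, 2), (60, 0), (62, 0), (80, 5), (81, 4), (45, 3), (50, 2), (52, 2), (58, 0), (59, 0), (79, 5), (35, 1), (44, 3), (48, 2), (49, 2), (57, 0), (78, 6), (34, 1), (42, 3), (43, 3), (47, 2), (56, 0), (32, 1), (33, 1), (39, 4), (41, 3), (46, 2), (29, 1), (31, 1), (38, 4), (40, 3), (25, 3), (28, 1), (30, 1), (37, 4), (20, 2), (24, 3), (27, 1), (36, 5), (13, 0), (19, 2), (23, 3), (26, 1), (12, 0), (18, 2), (22, 3), (11, 0), (17, 2), (21, 4), (10, 0), (16, 2), (9, 0), (15, 3), (8, 0), (14, 1), (6, 0), (7, 2), (5, 1), (4, 3), (3, 4), (2, 5), (1, 6), (0, 7), (113, 4), (127, 5), (128, 6), (129, 7), (131, 3), (132, 3), (133, 3), (134, 3), (137, 2), (138, 2), (139,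 2), (140, 2), (143, 1), (144, 1), (145, 1), (146, 1), (148, 1), (149, 1), (150, 1), (151, 1), (152, 3), (153, 3), (154, 3), (155, 3), (156, 4), (157, 4), (158, 4), (159, 5), (160, 5), (161, 6), (165, 0), (166, 0), (167, 0), (168, 0), (170, 0), (171, 0), (172, 0), (173, 0), (174, 0), (175, 0), (176, 0), (177, 0), (178, 0), (179, 0), (180, 0), (181, 0), (182, 0), (183, 0), (184, 2), (185, 2), (186, 2), (187, 2), (188, 2), (189, 2), (190, 2), (191, 2), (192, 2), (193, 2), (194, 3), (195, 3), (196, 3), (197, 3), (198, 3), (199, 3), (200, 4), (201, 4), (202, 4), (203, 5), (204, 1), (205, 1), (206, 1), (207, 1), (208, 1), (209, 1), (210, 1), (211, 1), (212, 1), (213, 1), (214, 3), (215, 3), (216, 3), (217, 3), (218, 4), (219, 2), (220, 2), (221, 2), (222, 2), (223, 2), (224, 3), (225, 1), (226, 0), (227, 0), (228, 0), (229, 0), (230, 0), (231, 0), (232, 2), (233, 0), (234, 1), (235, 3), (236, 4), (237, 5), (238, 6), (239, 7), (108, 3),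 (109, 4), (112, 5), (116, 4), (123, 4), (124, 4), (125, 4), (130, 3), (136, 2), (142, 1), (147, 1), (164, 0), (169, 0), (96, 1), (97, 1), (98, 3), (102, 2), (103, 2), (104, 3), (107, 3), (111, 6), (115, 4), (118, 5), (121, 5), (122, 5), (135, 2), (141, 1), (163, 0), (74, 0), (75, 0), (76, 0), (77, 2), (91, 1), (92, 1), (95, 1), (101, 2), (106, 3), (110, 7), (114, 4), (117, 5), (119, 6), (120, 6), (162, 0), (69, 0), (70, 0), (73, 0), (87, 3), (90, 1), (94, 1), (100, 2), (105, 3), (65, 0), (68, 0), (72, 0), (86, 3), (89, 1), (93, 1), (99, 2), (55, 2), (64, 0), (67, 0), (71, 0), (83, 4), (85, 3), (88, 1), (54, 2), (61, 0), (63, 0), (66, 0), (82, 4), (84, 3), (51, 2), (53, 2), (60, 0), (62, 0), (80, 5), (81, 4), (45, 3), (50, 2), (52, 2), (58, 0), (59, 0), (79, 5), (35, 1), (44, 3), (48, 2), (49, 2), (57, 0), (78, 6), (34, 1), (42, 3), (43, 3), (47, 2), (56, 0), (32, 1), (33, 1), (39, 4), (41, 3), (46, 2), (29, 1), (31, 1), (38, 4), (40,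 3), (25, 3), (28, 1), (30, 1), (37, 4), (20, 2), (24, 3), (27, 1), (36, 5), (13, 0), (19, 2), (23, 3), (26, 1), (12, 0), (18, 2), (22, 3), (11, 0), (17, 2), (21, 4), (10, 0), (16, 2), (9, 0), (15, 3), (8, 0), (14, 1), (6, 0), (7, 2), (5, 1), (4, 3), (3, 4), (2, 5), (1, 6), (0, 7), (116, 5), (124, 6), (125, 7), (127, 4), (128, 4), (129, 4), (132, 3), (133, 3), (134, 3), (138, 2), (139, 2), (140, 2), (144, 1), (145, 1), (146, 1), (149, 1), (150, 1), (151, 1), (153, 3), (154, 3), (155, 3), (156, 4), (157, 4), (158, 4), (159, 5), (160, 5), (161, 6), (166, 0), (167, 0), (168, 0), (171, 0), (172, 0), (173, 0), (175, 0), (176, 0), (177, 0), (178, 0), (179, 0), (180, 0), (181, 0), (182, 0), (183, 0), (185, 2), (186, 2), (187, 2), (188, 2), (189, 2), (190, 2), (191, 2), (192, 2), (193, 2), (194, 3), (195, 3), (196, 3), (197, 3), (198, 3), (199, 3), (200, 4), (201, 4), (202, 4), (203, 5), (204, 1), (205, 1), (206, 1), (207, 1), (208, 1), (209,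 1), (210, 1), (211, 1), (212, 1), (213, 1), (214, 3), (215, 3), (216, 3), (217, 3), (218, 4), (219, 2), (220, 2), (221, 2), (222, 2), (223, 2), (224, 3), (225, 1), (226, 0), (227, 0), (228, 0), (229, 0), (230, 0), (231, 0), (232, 2), (233, 0), (234, 1), (235, 3), (236, 4), (237, 5), (238, 6), (239, 7), (112, 4), (113, 5), (115, 6), (118, 5), (121, 5), (122, 5), (126, 4), (131, 3), (137, 2), (143, 1), (148, 1), (152, 3), (165, 0), (170, 0), (174, 0), (184, 2), (107, 3), (108, 3), (109, 4), (111, 4), (114, 7), (117, 5), (119, 6), (120, 6), (130, 3), (136, 2), (142, 1), (147, 1), (164, 0), (169, 0), (95, 1), (96, 1), (97, 1), (98, 3), (101, 2), (102, 2), (103, 2), (104, 3), (106, 3), (110, 4), (135, 2), (141, 1), (163, 0), (73, 0), (74, 0), (75, 0), (76, 0), (77, 2), (90, 1), (91, 1), (92, 1), (94, 1), (100, 2), (105, 3), (162, 0), (68, 0), (69, 0), (70, 0), (72, 0), (86, 3), (87, 3), (89, 1), (93, 1), (99, 2), (64, 0), (65, 0), (67,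 0), (71, 0), (83, 4), (85, 3), (88, 1), (54, 2), (55, 2), (61, 0), (63, 0), (66, 0), (82, 4), (84, 3), (51, 2), (53, 2), (60, 0), (62, 0), (80, 5), (81, 4), (45, 3), (50, 2), (52, 2), (58, 0), (59, 0), (79, 5), (35, 1), (44, 3), (48, 2), (49, 2), (57, 0), (78, 6), (34, 1), (42, 3), (43, 3), (47, 2), (56, 0), (32, 1), (33, 1), (39, 4), (41, 3), (46, 2), (29, 1), (31, 1), (38, 4), (40, 3), (25, 3), (28, 1), (30, 1), (37, 4), (20, 2), (24, 3), (27, 1), (36, 5), (13, 0), (19, 2), (23, 3), (26, 1), (12, 0), (18, 2), (22, 3), (11, 0), (17, 2), (21, 4), (10, 0), (16, 2), (9, 0), (15, 3), (8, 0), (14, 1), (6, 0), (7, 2), (5, 1), (4, 3), (3, 4), (2, 5), (1, 6), (0, 7), (118, 6), (122, 7), (124, 5), (125, 5), (128, 4), (129, 4), (133, 3), (134, 3), (139, 2), (140, 2), (145, 1), (146, 1), (150, 1), (151, 1), (154, 3), (155, 3), (157, 4), (158, 4), (159, 5), (160, 5), (161, 6), (167, 0), (168, 0), (172, 0), (173, 0), (176, 0), (177, 0), (179,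 0), (180, 0), (181, 0), (182, 0), (183, 0), (186, 2), (187, 2), (189, 2), (190, 2), (191, 2), (192, 2), (193, 2), (195, 3), (196, 3), (197, 3), (198, 3), (199, 3), (200, 4), (201, 4), (202, 4), (203, 5), (205, 1), (206, 1), (207, 1), (208, 1), (209, 1), (210, 1), (211, 1), (212, 1), (213, 1), (214, 3), (215, 3), (216, 3), (217, 3), (218, 4), (219, 2), (220, 2), (221, 2), (222, 2), (223, 2), (224, 3), (225, 1), (226, 0), (227, 0), (228, 0), (229, 0), (230, 0), (231, 0), (232, 2), (233, 0), (234, 1), (235, 3), (236, 4), (237, 5), (238, 6), (239, 7), (115, 5), (116, 6), (117, 7), (119, 6), (120, 6), (123, 5), (127, 4), (132, 3), (138, 2), (144, 1), (149, 1), (153, 3), (156, 4), (166, 0), (171, 0), (175, 0), (178, 0), (185, 2), (188, 2), (194, 3), (204, 1), (111, 4), (112, 4), (113, 5), (114, 5), (126, 4), (131, 3), (137, 2), (143, 1), (148, 1), (152, 3), (165, 0), (170, 0), (174, 0), (184, 2), (106, 3), (107, 3), (108, 3), (109, 4),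 (110, 4), (130, 3), (136, 2), (142, 1), (147, 1), (164, 0), (169, 0), (94, 1), (95, 1), (96, 1), (97, 1), (98, 3), (100, 2), (101, 2), (102, 2), (103, 2), (104, 3), (105, 3), (135, 2), (141, 1), (163, 0), (72, 0), (73, 0), (74, 0), (75, 0), (76, 0), (77, 2), (89, 1), (90, 1), (91, 1), (92, 1), (93, 1), (99, 2), (162, 0), (67, 0), (68, 0), (69, 0), (70, 0), (71, 0), (85, 3), (86, 3), (87, 3), (88, 1), (63, 0), (64, 0), (65, 0), (66, 0), (82, 4), (83, 4), (84, 3), (53, 2), (54, 2), (55, 2), (60, 0), (61, 0), (62, 0), (80, 5), (81, 4), (50, 2), (51, 2), (52, 2), (58, 0), (59, 0), (79, 5), (44, 3), (45, 3), (48, 2), (49, 2), (57, 0), (78, 6), (34, 1), (35, 1), (42, 3), (43, 3), (47, 2), (56, 0), (32, 1), (33, 1), (39, 4), (41, 3), (46, 2), (29, 1), (31, 1), (38, 4), (40, 3), (25, 3), (28, 1), (30, 1), (37, 4), (20, 2), (24, 3), (27, 1), (36, 5), (13, 0), (19, 2), (23, 3), (26, 1), (12, 0), (18, 2), (22, 3), (11, 0), (17, 2), (21, 4),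 (10, 0), (16, 2), (9, 0), (15, 3), (8, 0), (14, 1), (6, 0), (7, 2), (5, 1), (4, 3), (3, 4), (2, 5), (1, 6), (0, 7), (119, 7), (122, 6), (125, 5), (129, 4), (134, 3), (140, 2), (146, 1), (151, 1), (155, 3), (158, 4), (160, 5), (161, 6), (168, 0), (173, 0), (177, 0), (180, 0), (182, 0), (183, 0), (187, 2), (190, 2), (192, 2), (193, 2), (196, 3), (198, 3), (199, 3), (201, 4), (202, 4), (203, 5), (206, 1), (208, 1), (209, 1), (211, 1), (212, 1), (213, 1), (215, 3), (216, 3), (217, 3), (218, 4), (220, 2), (221, 2), (222, 2), (223, 2), (224, 3), (225, 1), (227, 0), (228, 0), (229, 0), (230, 0), (231, 0), (232, 2), (233, 0), (234, 1), (235, 3), (236, 4), (237, 5), (238, 6), (239, 7), (117, 6), (118, 7), (121, 6), (124, 5), (128, 4), (133, 3), (139, 2), (145, 1), (150, 1), (154, 3), (157, 4), (159, 5), (167, 0), (172, 0), (176, 0), (179, 0), (181, 0), (186, 2), (189, 2), (191, 2), (195, 3), (197, 3), (200, 4), (205, 1), (207, 1), (210, 1),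 (214, 3), (219, 2), (226, 0), (114, 5), (115, 5), (116, 6), (123, 5), (127, 4), (132, 3), (138, 2), (144, 1), (149, 1), (153, 3), (156, 4), (166, 0), (171, 0), (175, 0), (178, 0), (185, 2), (188, 2), (194, 3), (204, 1), (110, 4), (111, 4), (112, 4), (113, 5), (126, 4), (131, 3), (137, 2), (143, 1), (148, 1), (152, 3), (165, 0), (170, 0), (174, 0), (184, 2), (105, 3), (106, 3), (107, 3), (108, 3), (109, 4), (130, 3), (136, 2), (142, 1), (147, 1), (164, 0), (169, 0), (93, 1), (94, 1), (95, 1), (96, 1), (97, 1), (98, 3), (99, 2), (100, 2), (101, 2), (102, 2), (103, 2), (104, 3), (135, 2), (141, 1), (163, 0), (71, 0), (72, 0), (73, 0), (74, 0), (75, 0), (76, 0), (77, 2), (88, 1), (89, 1), (90, 1), (91, 1), (92, 1), (162, 0), (66, 0), (67, 0), (68, 0), (69, 0), (70, 0), (84, 3), (85, 3), (86, 3), (87, 3), (62, 0), (63, 0), (64, 0), (65, 0), (81, 4), (82, 4), (83, 4), (52, 2), (53, 2), (54, 2), (55, 2), (59, 0), (60, 0), (61, 0), (79, 5),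 (80, 5), (49, 2), (50, 2), (51, 2), (57, 0), (58, 0), (78, 6), (43, 3), (44, 3), (45, 3), (47, 2), (48, 2), (56, 0), (33, 1), (34, 1), (35, 1), (41, 3), (42, 3), (46, 2), (31, 1), (32, 1), (38, 4), (39, 4), (40, 3), (28, 1), (29, 1), (30, 1), (37, 4), (24, 3), (25, 3), (27, 1), (36, 5), (19, 2), (20, 2), (23, 3), (26, 1), (12, 0), (13, 0), (18, 2), (22, 3), (11, 0), (17, 2), (21, 4), (10, 0), (16, 2), (9, 0), (15, 3), (8, 0), (14, 1), (6, 0), (7, 2), (5, 1), (4, 3), (3, 4), (2, 5), (1, 6), (0, 7)]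

set_option maxRecDepth 100000 in
theorem oneE8 : oneGenOK chevE8 certE8 = true := by decide +kernel

end Cfsg.Agent.Lib.Helper36.ChevNGenOne
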