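import Mathlib
import Cfsg.Agent.Lib.Helper74.DixStmt
import Cfsg.Agent.Lib.Helper3.Irr
import Cfsg.Agent.Lib.CT.NormOne
import Cfsg.Agent.Lib.CT.Clifford
import Cfsg.Agent.Lib.CT.Ops

/-!
S4472, piece CHARFIN: `StabProp → CharProp`.
-/

set_option autoImplicit false

namespace Cfsg.Agent.Lib.Helper36.DixCHARFIN

open Cfsg Cfsg.Agent.Lib.Helper74.DixStmt Cfsg.Agent.Lib.CT Cfsg.Agent.Lib.CT.Wedderburn
open Cfsg.Agent.Lib.Helper3

universe u

/-- A complex number whose real part equals a bound for its norm is that bound. -/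
theorem eq_of_re_eq_of_norm_le {z : ℂ} {d : ℝ} (h1 : z.re = d) (h2 : ‖z‖ ≤ d) : z = (d : ℂ) := by
  have hd : 0 ≤ d := le_trans (norm_nonneg z) h2
  have h3 : ‖z‖ ^ 2 = z.re ^ 2 + z.im ^ 2 := by
    rw [Complex.sq_norm, Complex.normSq_apply]; ring
  have h4 : ‖z‖ ^ 2 ≤ d ^ 2 := by
    apply pow_le_pow_left₀ (norm_nonneg z) h2
  have h5 : z.im ^ 2 ≤ 0 := by
    rw [h3, h1] at h4; linarith
  have h6 : z.im = 0 := by
    have := sq_nonneg z.im
    have h7 : z.im ^ 2 = 0 := le_antisymm h5 this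
    exact pow_eq_zero_iff (two_ne_zero) |>.mp h7
  apply Complex.ext
  · simpa using h1
  · simpa using h6

theorem main (hS : StabProp.{u}) : CharProp.{u} := by
  intro L _ _ p _ K hK hcop hidx χ hχ hfaith
  classical
  haveI : Fintype L := Fintype.ofFinite L
  haveI : Fintype K := Fintype.ofFinite K
  haveI := finite_irrCharacter K
  haveI : Fintype (IrrCharacter K) := Fintype.ofFinite (IrrCharacter K)
  have hχK : IsCharacter K (fun k : K => χ k) := Ops.isCharacter_restrict K hχ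
  obtain ⟨m, hm, hsum⟩ := NormOne.exists_mult_sum hχK
  set C : Finset (K → ℂ) :=
    (Finset.univ.filter (fun ψ : IrrCharacter K => m ψ ≠ 0)).image
      (fun ψ : IrrCharacter K => (ψ : K → ℂ)) with hC
  have hC1 : ∀ φ ∈ C, IsIrrCharacter K φ := by
    intro φ hφ
    rw [hC, Finset.mem_image] at hφ
    obtain ⟨ψ, _, rfl⟩ := hφ
    exact ψ.2
  have hC2 : ∀ φ ∈ C, ∀ g : L,
      (fun k : K => φ ⟨g * k * g⁻¹, hK.conj_mem k k.2 g⟩) ∈ C := by
    intro φ hφ g
    rw [hC, Finset.mem_image] at hφ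
    obtain ⟨ψ, hψ, rfl⟩ := hφ
    rw [Finset.mem_filter] at hψ
    have hirr : IsIrrCharacter K (Clifford.conjFun K hK (ψ : K → ℂ) g) :=
      Clifford.isIrrCharacter_conjFun K hK ψ.2 g
    have hin := Clifford.classInner_restrict_conjFun K hK (char_isClassFunction hχ)
      (ψ : K → ℂ) g
    rw [hC, Finset.mem_image]
    refine ⟨⟨_, hirr⟩, ?_, rfl⟩
    rw [Finset.mem_filter]
    refine ⟨Finset.mem_univ _, ?_⟩
    have h1 := hm ⟨_, hirr⟩
    have h2 := hm ψ
    simp only at h1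
    rw [hin, h2] at h1
    have h3 : m ψ = m ⟨_, hirr⟩ := by exact_mod_cast h1
    rw [← h3]
    exact hψ.2
  obtain ⟨Ψ, hΨ, hΨcyc, hΨK⟩ := hS p K hcop hidx C hC1 hC2
  -- rewrite the sum over `C`
  have hsumC : ∀ k : K, Ψ k = ∑ ψ ∈ Finset.univ.filter (fun ψ : IrrCharacter K => m ψ ≠ 0),
      (ψ : K → ℂ) k := by
    intro k
    rw [hΨK k, hC, Finset.sum_image]
    intro a _ b _ hab
    exact Subtype.ext hab
  have hχsum : ∀ k : K, χ k = ∑ ψ ∈ Finset.univ.filter (fun ψ : IrrCharacter K => m ψ ≠ 0),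
      (m ψ : ℂ) * (ψ : K → ℂ) k := by
    intro k
    have h1 := congrFun hsum k
    simp only [Finset.sum_apply, Pi.smul_apply, smul_eq_mul] at h1
    rw [h1, Finset.sum_filter]
    apply Finset.sum_congr rfl
    intro ψ _
    by_cases h : m ψ = 0
    · simp [h]
    · simp [h]
  -- degrees
  choose d hd using fun ψ : IrrCharacter K => Irr.IsCharacter.exists_apply_one
    (isCharacter_of_irr ψ.2)
  have hΨ1 : Ψ 1 = ((∑ ψ ∈ Finset.univ.filter (fun ψ : IrrCharacter K => m ψ ≠ 0), d ψ : ℕ) : ℂ) := by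
    have := hsumC 1
    rw [OneMemClass.coe_one] at this
    rw [this, Nat.cast_sum]
    exact Finset.sum_congr rfl fun ψ _ => hd ψ
  have hχ1 : χ 1 = ((∑ ψ ∈ Finset.univ.filter (fun ψ : IrrCharacter K => m ψ ≠ 0), m ψ * d ψ : ℕ) : ℂ) := by
    have := hχsum 1
    rw [OneMemClass.coe_one] at this
    rw [this, Nat.cast_sum]
    exact Finset.sum_congr rfl fun ψ _ => by rw [hd ψ, Nat.cast_mul]
  refine ⟨Ψ, hΨ, ?_, ?_, hΨcyc⟩
  · unfold charDegree
    rw [hΨ1, hχ1, Complex.natCast_re, Complex.natCast_re, Nat.floor_natCast, Nat.floor_natCast]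
    apply Finset.sum_le_sum
    intro ψ hψ
    rw [Finset.mem_filter] at hψ
    exact Nat.le_mul_of_pos_left _ (Nat.pos_of_ne_zero hψ.2)
  · intro k hk hkΨ
    apply hfaith k hk
    have hval : ∀ ψ ∈ Finset.univ.filter (fun ψ : IrrCharacter K => m ψ ≠ 0),
        (ψ : K → ℂ) ⟨k, hk⟩ = (ψ : K → ℂ) 1 := by
      have hle : ∀ ψ ∈ Finset.univ.filter (fun ψ : IrrCharacter K => m ψ ≠ 0),
          ((ψ : K → ℂ) ⟨k, hk⟩).re ≤ (d ψ : ℝ) := by
        intro ψ _
        have h1 := Irr.IsCharacter.norm_le (isCharacter_of_irr ψ.2) (⟨k, hk⟩ : K)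
        rw [hd ψ, Complex.natCast_re] at h1
        exact le_trans (Complex.re_le_norm _) h1
      have heq : ∑ ψ ∈ Finset.univ.filter (fun ψ : IrrCharacter K => m ψ ≠ 0),
          ((ψ : K → ℂ) ⟨k, hk⟩).re
          = ∑ ψ ∈ Finset.univ.filter (fun ψ : IrrCharacter K => m ψ ≠ 0), (d ψ : ℝ) := by
        have h1 := hsumC ⟨k, hk⟩
        simp only at h1
        rw [hkΨ, hΨ1] at h1
        have h2 := congrArg Complex.re h1
        rw [Complex.natCast_re, Complex.re_sum] at h2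
        rw [← h2, Nat.cast_sum]
      have h3 := (Finset.sum_eq_sum_iff_of_le hle).mp heq
      intro ψ hψ
      have h4 := h3 ψ hψ
      have h5 := Irr.IsCharacter.norm_le (isCharacter_of_irr ψ.2) (⟨k, hk⟩ : K)
      rw [hd ψ, Complex.natCast_re] at h5
      rw [eq_of_re_eq_of_norm_le h4 h5, hd ψ]
      simp
    have h6 := hχsum ⟨k, hk⟩
    have h7 := hχsum 1
    rw [OneMemClass.coe_one] at h7
    simp only at h6
    rw [h6, h7]
    exact Finset.sum_congr rfl fun ψ hψ => by rw [hval ψ hψ]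

end Cfsg.Agent.Lib.Helper36.DixCHARFIN
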