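import Mathlib
import Cfsg.Agent.Lib.Helper74.DixStmt
import Cfsg.Agent.Lib.CT.IndChar
import Cfsg.Agent.Lib.CT.FrobRec
import Cfsg.Agent.Lib.CT.Clifford
import Cfsg.Agent.Lib.CT.Ops

/-!
S4472, piece ORB: `ExtSub → OrbProp`.
-/

set_option autoImplicit false

namespace Cfsg.Agent.Lib.Helper36.DixORB

open Cfsg Cfsg.Agent.Lib.Helper74.DixStmt Cfsg.Agent.Lib.CT Cfsg.Agent.Lib.CT.Wedderburn

universe u

/-- The stabilizer of a function on a normal subgroup under conjugation. -/
def stab {L : Type u} [Group L] (K : Subgroup L) (hK : K.Normal) (θ : K → ℂ) : Subgroup L where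
  carrier := {g | Clifford.conjFun K hK θ g = θ}
  one_mem' := Clifford.conjFun_one K hK θ
  mul_mem' := by
    intro a b ha hb
    simp only [Set.mem_setOf_eq] at ha hb ⊢
    rw [← Clifford.conjFun_conjFun, ha, hb]
  inv_mem' := by
    intro a ha
    simp only [Set.mem_setOf_eq] at ha ⊢
    have h := Clifford.conjFun_conjFun K hK θ a a⁻¹
    rw [ha, mul_inv_cancel, Clifford.conjFun_one] at h
    exact h

theorem mem_stab {L : Type u} [Group L] (K : Subgroup L) (hK : K.Normal) (θ : K → ℂ) (g : L) :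
    g ∈ stab K hK θ ↔ Clifford.conjFun K hK θ g = θ := Iff.rfl

theorem le_stab {L : Type u} [Group L] (K : Subgroup L) (hK : K.Normal) (θ : K → ℂ)
    (hθ : IsClassFunction K θ) : K ≤ stab K hK θ := by
  intro k₀ hk₀
  rw [mem_stab]
  funext k
  rw [Clifford.conjFun_apply]
  have h := hθ k ⟨k₀, hk₀⟩
  rw [← h]
  congr 1

theorem main (hE : ExtSub.{u}) : OrbProp.{u} := by
  intro L _ _ p _ K hK hcop hidx θ hθ
  classical
  haveI : Fintype L := Fintype.ofFinite L
  set T : Subgroup L := stab K hK θ with hT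
  have hKT : K ≤ T := le_stab K hK θ (char_isClassFunction (isCharacter_of_irr hθ))
  haveI : Fintype (L ⧸ T) := Fintype.ofFinite _
  have hinv : ∀ g ∈ T, ∀ k : K, θ ⟨g * k * g⁻¹, hK.conj_mem k k.2 g⟩ = θ k := by
    intro g hg k
    have h := (mem_stab K hK θ g).mp hg
    exact congrFun h k
  obtain ⟨ψ, hψ, hψK, hψcyc⟩ := hE p K hcop hidx T hKT θ hθ hinv
  have hΨ : IsCharacter L (indFun T ψ) := IndChar.isCharacter_indFun T ψ hψ
  have hval : ∀ g : L, indFun T ψ g
      = ∑ q : L ⧸ T, extendByZero T ψ ((IndChar.rep T q)⁻¹ * g * IndChar.rep T q) :=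
    fun g => IndChar.indFun_eq_sum_rep T ψ (char_isClassFunction hψ) g
  refine ⟨indFun T ψ, hΨ, ?_, ?_⟩
  · intro g
    rw [hval g]
    apply IntermediateField.sum_mem
    intro q _
    by_cases hq : (IndChar.rep T q)⁻¹ * g * IndChar.rep T q ∈ T
    · rw [FrobRec.extendByZero_apply_of_mem T ψ hq]
      exact hψcyc _
    · rw [FrobRec.extendByZero_apply_of_not_mem T ψ hq]
      exact zero_mem _
  · -- the orbit
    have hstabT : ∀ t ∈ T, Clifford.conjFun K hK θ t = θ := fun t ht => (mem_stab K hK θ t).mp ht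
    have hinj : Function.Injective
        (fun q : L ⧸ T => Clifford.conjFun K hK θ (IndChar.rep T q)⁻¹) := by
      intro q q' h
      have h1 := congrArg (fun φ => Clifford.conjFun K hK φ (IndChar.rep T q')) h
      beta_reduce at h1
      rw [Clifford.conjFun_conjFun, Clifford.conjFun_conjFun, inv_mul_cancel,
        Clifford.conjFun_one] at h1
      have h2 : (IndChar.rep T q)⁻¹ * IndChar.rep T q' ∈ T := (mem_stab K hK θ _).mpr h1
      have h3 : (QuotientGroup.mk (IndChar.rep T q) : L ⧸ T) = QuotientGroup.mk (IndChar.rep T q') :=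
        QuotientGroup.eq.mpr h2
      rwa [IndChar.mk_rep, IndChar.mk_rep] at h3
    refine ⟨Finset.univ.image (fun q : L ⧸ T => Clifford.conjFun K hK θ (IndChar.rep T q)⁻¹),
      ?_, ?_⟩
    · intro φ
      rw [Finset.mem_image]
      constructor
      · rintro ⟨q, _, rfl⟩
        exact ⟨(IndChar.rep T q)⁻¹, rfl⟩
      · rintro ⟨g, rfl⟩
        refine ⟨(QuotientGroup.mk g⁻¹ : L ⧸ T), Finset.mem_univ _, ?_⟩
        have h1 : (QuotientGroup.mk g⁻¹ : L ⧸ T)
            = QuotientGroup.mk (IndChar.rep T (QuotientGroup.mk g⁻¹ : L ⧸ T)) :=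
          (IndChar.mk_rep T _).symm
        have h2 : (g⁻¹)⁻¹ * IndChar.rep T (QuotientGroup.mk g⁻¹ : L ⧸ T) ∈ T :=
          QuotientGroup.eq.mp h1
        rw [inv_inv] at h2
        have h3 : (IndChar.rep T (QuotientGroup.mk g⁻¹ : L ⧸ T))⁻¹
            = (g * IndChar.rep T (QuotientGroup.mk g⁻¹ : L ⧸ T))⁻¹ * g := by group
        show Clifford.conjFun K hK θ (IndChar.rep T (QuotientGroup.mk g⁻¹ : L ⧸ T))⁻¹
          = Clifford.conjFun K hK θ g
        rw [h3, ← Clifford.conjFun_conjFun, hstabT _ (T.inv_mem h2)]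
    · intro k
      rw [Finset.sum_image (fun a _ b _ hab => hinj hab), hval (k : L)]
      apply Finset.sum_congr rfl
      intro q _
      have hmemK : (IndChar.rep T q)⁻¹ * (k : L) * IndChar.rep T q ∈ K := by
        have := hK.conj_mem k k.2 (IndChar.rep T q)⁻¹
        rwa [inv_inv] at this
      rw [FrobRec.extendByZero_apply_of_mem T ψ (hKT hmemK)]
      have h1 := hψK ⟨_, hmemK⟩
      simp only at h1
      rw [h1, Clifford.conjFun_apply]
      congr 1
      apply Subtype.ext
      simp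

end Cfsg.Agent.Lib.Helper36.DixORB
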