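import Mathlib
import Cfsg.Agent.Lib.Helper36.LinCyc

/-!
Centralizers of elements of prime order `p` in a group with a faithful representation of dimension
at most `e + 1` over a finite field with `q` elements, where `q` has order at least `e ≥ 2` modulo `p`:
any two elements commuting with such an element commute.
-/

set_option autoImplicit false

namespace Cfsg.Agent.Lib.Helper36.LinCent

open Module Cfsg.Agent.Lib.Helper36.LinCyc

variable {K : Type*} [Field K] [Fintype K] {U : Type*} [AddCommGroup U] [Module K U]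
  [FiniteDimensional K U] {P : Type*} [Group P]

/-- restriction of a representation to an invariant subspace -/
def resRep (ρ : P →* (U →ₗ[K] U)) (W : Submodule K U) (hW : ∀ g : P, ∀ u ∈ W, ρ g u ∈ W) :
    P →* (W →ₗ[K] W) where
  toFun g := (ρ g).restrict (hW g)
  map_one' := by ext v; simp
  map_mul' := by intro a b; ext v; simp

theorem resRep_apply (ρ : P →* (U →ₗ[K] U)) (W : Submodule K U)
    (hW : ∀ g : P, ∀ u ∈ W, ρ g u ∈ W) (g : P) (u : W) :
    ((resRep ρ W hW g) u : U) = ρ g (u : U) := rfl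

/-- counting on an invariant subspace without fixed vectors -/
theorem card_inv_modEq [Finite P] {p : ℕ} [Fact p.Prime] (hP : IsPGroup p P)
    (ρ : P →* (U →ₗ[K] U)) (S : Set P) (W : Submodule K U)
    (hW : ∀ g : P, ∀ u ∈ W, ρ g u ∈ W) (hWF : W ⊓ fixQ ρ S = ⊥) :
    Fintype.card K ^ finrank K W ≡ 1 [MOD p] := by
  have h1 := card_modEq hP (resRep ρ W hW) S
  have h2 : fixQ (resRep ρ W hW) S = ⊥ := by
    rw [eq_bot_iff]
    intro u hu
    have h3 : (u : U) ∈ W ⊓ fixQ ρ S := by
      refine ⟨u.2, fun x hx => ?_⟩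
      have h4 := hu x hx
      have h5 := congrArg Subtype.val h4
      rw [resRep_apply] at h5
      exact h5
    rw [hWF] at h3
    have h6 : (u : U) = 0 := (Submodule.mem_bot K).1 h3
    rw [Submodule.mem_bot]
    exact Subtype.ext h6
  rw [h2, finrank_bot, pow_zero] at h1
  exact h1

theorem adjoin_commute {A : Type*} [Ring A] [Algebra K A] {X T : A} (h : Commute X T) :
    ∀ f ∈ Algebra.adjoin K ({X} : Set A), Commute f T := by
  intro f hf
  have h1 : Algebra.adjoin K ({X} : Set A) ≤ Subalgebra.centralizer K {T} := by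
    apply Algebra.adjoin_le
    intro y hy
    rw [Set.mem_singleton_iff] at hy
    subst hy
    rw [SetLike.mem_coe, Subalgebra.mem_centralizer_iff]
    intro g hg
    rw [Set.mem_singleton_iff] at hg
    subst hg
    exact h.symm.eq
  have h2 := h1 hf
  rw [Subalgebra.mem_centralizer_iff] at h2
  exact (h2 T rfl).symm

theorem norm_fix {p : ℕ} (ρ : P →* (U →ₗ[K] U)) (x : P) {u : U} (hu : u ∈ fixQ ρ {x}) :
    (∑ j ∈ Finset.range p, (ρ x) ^ j) u = (p : K) • u := by
  rw [LinearMap.sum_apply]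
  have h : ∀ j ∈ Finset.range p, ((ρ x) ^ j) u = u :=
    fun j _ => pow_apply_fix (ρ x) (hu x rfl) j
  rw [Finset.sum_congr rfl h, Finset.sum_const, Finset.card_range, Nat.cast_smul_eq_nsmul]

variable [Finite P] {p e : ℕ} [Fact p.Prime]

/-- the core statement, for a cyclic `p`-group `P` generated by `x` -/
theorem commute_of_commute (hP : IsPGroup p P) (ρ : P →* (U →ₗ[K] U))
    (hpq : ¬ p ∣ Fintype.card K) (hpK : (p : K) ≠ 0)
    (he : ∀ j, 0 < j → j < e → ¬ p ∣ Fintype.card K ^ j - 1) (he2 : 2 ≤ e)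
    (hd : finrank K U ≤ e + 1) (x : P) (hxp : x ^ p = 1) (hx : ρ x ≠ 1)
    (hgen : ∀ g : P, ∃ k : ℕ, g = x ^ k)
    {T T' : U →ₗ[K] U} (hT : Commute T (ρ x)) (hT' : Commute T' (ρ x)) : Commute T T' := by
  classical
  obtain ⟨X, hX⟩ : ∃ X, X = ρ x := ⟨_, rfl⟩
  obtain ⟨Nm, hNm⟩ : ∃ Nm : U →ₗ[K] U, Nm = ∑ j ∈ Finset.range p, X ^ j := ⟨_, rfl⟩
  obtain ⟨F, hF⟩ : ∃ F, F = fixQ ρ {x} := ⟨_, rfl⟩
  obtain ⟨W, hW⟩ : ∃ W, W = LinearMap.ker Nm := ⟨_, rfl⟩
  obtain ⟨C, hC⟩ : ∃ C, C = Algebra.adjoin K ({X} : Set (U →ₗ[K] U)) := ⟨_, rfl⟩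
  rw [← hX] at hT hT' hx
  have hXC : X ∈ C := by rw [hC]; exact Algebra.self_mem_adjoin_singleton K X
  have hNmC : Nm ∈ C := by
    rw [hNm]; exact Subalgebra.sum_mem _ (fun j _ => Subalgebra.pow_mem _ hXC j)
  have hCcomm : ∀ {A : U →ₗ[K] U}, Commute X A → ∀ f ∈ C, Commute f A := by
    intro A h f hf
    rw [hC] at hf
    exact adjoin_commute h f hf
  have hCC : ∀ f ∈ C, ∀ g ∈ C, Commute f g := by
    intro f hf g hg
    have h1 : Commute X f := (hCcomm (Commute.refl X) f hf).symm
    exact (hCcomm h1 g hg).symm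
  have hρC : ∀ g : P, ρ g ∈ C := by
    intro g
    obtain ⟨k, rfl⟩ := hgen g
    rw [map_pow, ← hX]; exact Subalgebra.pow_mem _ hXC k
  have hNF : ∀ u, Nm u ∈ F := by
    intro u; rw [hNm, hF, hX]; exact geom_mem ρ hxp u
  have hNfix : ∀ u ∈ F, Nm u = (p : K) • u := by
    intro u hu; rw [hNm, hX]; rw [hF] at hu; exact norm_fix ρ x hu
  have hWF : W ⊓ F = ⊥ := by
    rw [eq_bot_iff]
    rintro u ⟨huW, huF⟩
    have h1 : Nm u = 0 := by rw [hW] at huW; exact huW
    rw [hNfix u huF] at h1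
    rcases smul_eq_zero.1 h1 with h | h
    · exact absurd h hpK
    · exact (Submodule.mem_bot K).2 h
  have hWinv : ∀ {A : U →ₗ[K] U}, Commute A X → ∀ u ∈ W, A u ∈ W := by
    intro A hA u hu
    have h1 : Commute Nm A := hCcomm hA.symm Nm hNmC
    have h2 : Nm (A u) = A (Nm u) := by
      have := congrArg (fun f : U →ₗ[K] U => f u) h1.eq
      simpa using this
    have h3 : Nm u = 0 := by rw [hW] at hu; exact hu
    rw [hW]
    show Nm (A u) = 0
    rw [h2, h3, map_zero]
  have hFinv : ∀ {A : U →ₗ[K] U}, Commute A X → ∀ u ∈ F, A u ∈ F := by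
    intro A hA u hu
    rw [hF] at hu ⊢
    intro y hy
    rw [Set.mem_singleton_iff] at hy
    rw [hy, ← hX]
    have h1 := congrArg (fun f : U →ₗ[K] U => f u) hA.eq
    simp only [Module.End.mul_apply] at h1
    have h2 : X u = u := by rw [hX]; exact hu x rfl
    rw [← h1, h2]
  have hFdim : finrank K F ≤ 1 := by
    by_contra hcon
    have hle : finrank K F ≤ finrank K U := Submodule.finrank_le _
    have h1 := card_modEq hP ρ {x}
    rw [← hF] at h1
    have h2 := eq_of_modEq hpq he hle (by omega) h1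
    have h3 : F = ⊤ := Submodule.eq_top_of_finrank_eq h2.symm
    apply hx
    ext u
    have h4 : u ∈ F := by rw [h3]; trivial
    rw [hF] at h4
    rw [hX]
    exact h4 x rfl
  have hSW : ∀ w ∈ W, T (T' w) = T' (T w) := by
    intro w hw
    by_cases hw0 : w = 0
    · rw [hw0]; simp
    obtain ⟨W', hW'⟩ : ∃ W' : Submodule K U,
        W' = (Subalgebra.toSubmodule C).map (LinearMap.applyₗ w) := ⟨_, rfl⟩
    have hmemW' : ∀ u, u ∈ W' ↔ ∃ f ∈ C, f w = u := by
      intro u
      rw [hW']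
      simp only [Submodule.mem_map, Subalgebra.mem_toSubmodule, LinearMap.applyₗ_apply_apply]
    have hwW' : w ∈ W' := (hmemW' w).2 ⟨1, Subalgebra.one_mem C, rfl⟩
    have hW'W : W' ≤ W := by
      intro u hu
      obtain ⟨f, hf, rfl⟩ := (hmemW' u).1 hu
      exact hWinv (hCC f hf X hXC) w hw
    have hW'inv : ∀ g : P, ∀ u ∈ W', ρ g u ∈ W' := by
      intro g u hu
      obtain ⟨f, hf, rfl⟩ := (hmemW' u).1 hu
      exact (hmemW' _).2 ⟨ρ g * f, Subalgebra.mul_mem _ (hρC g) hf, rfl⟩
    have hWinvP : ∀ g : P, ∀ u ∈ W, ρ g u ∈ W :=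
      fun g u hu => hWinv (hCC _ (hρC g) X hXC) u hu
    have hWF' : W ⊓ fixQ ρ {x} = ⊥ := by rw [← hF]; exact hWF
    have h1 := card_inv_modEq hP ρ {x} W' hW'inv (by
      rw [eq_bot_iff, ← hWF']; exact inf_le_inf_right _ hW'W)
    have h2 := card_inv_modEq hP ρ {x} W hWinvP hWF'
    have hge : e ≤ finrank K W' := by
      by_contra hlt
      have h3 := eq_of_modEq hpq he (a := finrank K W') (b := 0) (Nat.zero_le _) (by omega)
        (by simpa using h1)
      have h4 : W' = ⊥ := Submodule.finrank_eq_zero.1 h3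
      rw [h4] at hwW'
      exact hw0 ((Submodule.mem_bot K).1 hwW')
    have hWle : finrank K W ≤ finrank K U := Submodule.finrank_le _
    have h5 := eq_of_modEq hpq he (a := finrank K W) (b := finrank K W')
      (Submodule.finrank_mono hW'W) (by omega) (h2.trans h1.symm)
    have hEq : W' = W := Submodule.eq_of_le_of_finrank_eq hW'W h5.symm
    have hTw : T w ∈ W' := by rw [hEq]; exact hWinv hT w hw
    have hT'w : T' w ∈ W' := by rw [hEq]; exact hWinv hT' w hw
    obtain ⟨f, hf, hfw⟩ := (hmemW' _).1 hTw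
    obtain ⟨g, hg, hgw⟩ := (hmemW' _).1 hT'w
    have hfT' : Commute f T' := hCcomm hT'.symm f hf
    have hgT : Commute g T := hCcomm hT.symm g hg
    have e1 : T (g w) = g (T w) := by
      have := congrArg (fun a : U →ₗ[K] U => a w) hgT.eq; simpa using this.symm
    have e2 : T' (f w) = f (T' w) := by
      have := congrArg (fun a : U →ₗ[K] U => a w) hfT'.eq; simpa using this.symm
    have e3 : g (f w) = f (g w) := by
      have := congrArg (fun a : U →ₗ[K] U => a w) (hCC g hg f hf).eq; simpa using this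
    calc T (T' w) = T (g w) := by rw [hgw]
      _ = g (T w) := e1
      _ = g (f w) := by rw [hfw]
      _ = f (g w) := e3
      _ = f (T' w) := by rw [hgw]
      _ = T' (f w) := e2.symm
      _ = T' (T w) := by rw [hfw]
  have hSF : ∀ u ∈ F, T (T' u) = T' (T u) := by
    intro u hu
    obtain ⟨v, hv⟩ := (finrank_le_one_iff (K := K) (V := F)).1 hFdim
    obtain ⟨a, ha⟩ := hv ⟨u, hu⟩
    obtain ⟨c, hc⟩ := hv ⟨T v, hFinv hT v v.2⟩
    obtain ⟨c', hc'⟩ := hv ⟨T' v, hFinv hT' v v.2⟩
    have ha' : u = a • (v : U) := by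
      have := congrArg Subtype.val ha; simpa using this.symm
    have hc1 : T (v : U) = c • (v : U) := by
      have := congrArg Subtype.val hc; simpa using this.symm
    have hc1' : T' (v : U) = c' • (v : U) := by
      have := congrArg Subtype.val hc'; simpa using this.symm
    simp only [ha', map_smul, hc1, hc1']
    rw [smul_comm c c' (v : U)]
  have hdec : ∀ u : U, ∃ u1 ∈ F, ∃ u2 ∈ W, u = u1 + u2 := by
    intro u
    refine ⟨(p : K)⁻¹ • Nm u, F.smul_mem _ (hNF u), u - (p : K)⁻¹ • Nm u, ?_, by abel⟩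
    rw [hW]
    show Nm (u - (p : K)⁻¹ • Nm u) = 0
    rw [map_sub, map_smul, hNfix _ (hNF u), smul_smul, inv_mul_cancel₀ hpK, one_smul, sub_self]
  show T * T' = T' * T
  ext u
  obtain ⟨u1, h1, u2, h2, rfl⟩ := hdec u
  simp only [Module.End.mul_apply, map_add]
  rw [hSF u1 h1, hSW u2 h2]

/-- group version: in a group with a faithful representation of dimension at most `e + 1`, elements
commuting with an element of order `p` commute -/
theorem commute_of_faithful {G : Type*} [Group G] (ρ : G →* (U →ₗ[K] U))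
    (hρ : Function.Injective ρ) (hpq : ¬ p ∣ Fintype.card K) (hpK : (p : K) ≠ 0)
    (he : ∀ j, 0 < j → j < e → ¬ p ∣ Fintype.card K ^ j - 1) (he2 : 2 ≤ e)
    (hd : finrank K U ≤ e + 1) (x : G) (hx : orderOf x = p)
    {a b : G} (ha : Commute a x) (hb : Commute b x) : Commute a b := by
  classical
  have hpp : p.Prime := Fact.out
  have hcardP : Nat.card (Subgroup.zpowers x) = p := by rw [Nat.card_zpowers, hx]
  haveI : Finite (Subgroup.zpowers x) :=
    Nat.finite_of_card_ne_zero (by rw [hcardP]; exact hpp.ne_zero)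
  have hP : IsPGroup p (Subgroup.zpowers x) := IsPGroup.of_card (n := 1) (by rw [hcardP, pow_one])
  obtain ⟨x', hx'⟩ : ∃ x' : Subgroup.zpowers x, (x' : G) = x := ⟨⟨x, Subgroup.mem_zpowers x⟩, rfl⟩
  have hx'p : x' ^ p = 1 := by
    apply Subtype.ext
    rw [Subgroup.coe_pow, hx', ← hx, pow_orderOf_eq_one]; rfl
  have hx1 : x ≠ 1 := by
    intro h; rw [h, orderOf_one] at hx; exact hpp.one_lt.ne hx
  have hgen : ∀ g : Subgroup.zpowers x, ∃ k : ℕ, g = x' ^ k := by
    intro g
    have hfin : IsOfFinOrder x := by rw [← orderOf_pos_iff, hx]; exact hpp.pos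
    obtain ⟨k, hk⟩ := (hfin.mem_powers_iff_mem_zpowers).2 g.2
    refine ⟨k, Subtype.ext ?_⟩
    rw [Subgroup.coe_pow, hx']
    exact hk.symm
  have hρx : (ρ.comp (Subgroup.zpowers x).subtype) x' ≠ 1 := by
    intro h
    apply hx1
    apply hρ
    rw [map_one]
    have : ρ ((x' : G)) = 1 := h
    rw [hx'] at this
    exact this
  have hxx : (ρ.comp (Subgroup.zpowers x).subtype) x' = ρ x := by
    show ρ (x' : G) = ρ x
    rw [hx']
  have key : Commute (ρ a) (ρ b) :=
    commute_of_commute hP (ρ.comp (Subgroup.zpowers x).subtype) hpq hpK he he2 hd x' hx'p hρx hgen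
      (by rw [hxx]; exact ha.map ρ) (by rw [hxx]; exact hb.map ρ)
  show a * b = b * a
  apply hρ
  rw [map_mul, map_mul]
  exact key.eq

/-- matrix version in dimension 7 -/
theorem commute_of_faithful7 {G : Type*} [Group G] (ρ : G →* GL (Fin 7) K)
    (hρ : Function.Injective ρ) (hpq : ¬ p ∣ Fintype.card K) (hpK : (p : K) ≠ 0)
    (he : ∀ j, 0 < j → j < 6 → ¬ p ∣ Fintype.card K ^ j - 1) (x : G) (hx : orderOf x = p)
    {a b : G} (ha : Commute a x) (hb : Commute b x) : Commute a b := by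
  classical
  let f : G →* ((Fin 7 → K) →ₗ[K] (Fin 7 → K)) :=
    { toFun := fun g => Matrix.toLin' ((ρ g : GL (Fin 7) K) : Matrix (Fin 7) (Fin 7) K)
      map_one' := by simp; rfl
      map_mul' := by intro a b; simp [Matrix.toLin'_mul]; rfl }
  have hf : Function.Injective f := by
    intro a b h
    apply hρ
    apply Units.ext
    exact Matrix.toLin'.injective h
  exact commute_of_faithful (e := 6) f hf hpq hpK he (by norm_num) (by simp) x hx ha hb

end Cfsg.Agent.Lib.Helper36.LinCent
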