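import Mathlib
import Cfsg.Agent.Lib.Helper45.OMiStmt
import Cfsg.Agent.Lib.Helper94.OMiPStmt
import Cfsg.Agent.Lib.Helper44.WittND2
import Cfsg.Agent.Lib.Helper44.NegPairs

/-!
# S5991 / CLS2ALT (helper36): `Cls2` from `MUniq` and `MSplit`

The perps `U`, `U'` of `W`, `W'` (from `MSplit` with `x = 1`); Witt
(`Helper44.WittND2.exists_O_map`) gives an isometry `g` of `V` with `g W = W'`, so `g U ≤ U'`;
the `c`-structure on the perp of `W` is a `TypeM c` on `U`, moved by `g` to `U'`; `MUniq` on `U'`.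
-/

set_option autoImplicit false

universe u

namespace Cfsg.Agent.Lib.Helper36.OMiCLS2ALT

open Cfsg.Agent.Lib.Helper94.OMiPStmt (TypeM IsPerpM MUniq MSplit)
open Cfsg.Agent.Lib.Helper45.OMiStmt (M Cls2)

theorem main (hU : MUniq.{u}) (hS : MSplit.{u}) : Cls2.{u} := by
  intro F _ _ hodd d m hd hm a b hab W₀ W W' hW hW' c c' hc hc'
  by_cases hc0 : c' = 0
  · exact ⟨0, by rw [hc0]; ring⟩
  have h2 : (2 : F) ≠ 0 := by
    apply Ring.two_ne_zero
    intro h
    have h3 := FiniteField.even_card_iff_char_two.mp h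
    have h4 := Nat.odd_iff.mp hodd
    omega
  obtain ⟨hWm, hWnd, e₁, he₁⟩ := hW
  obtain ⟨hW'm, hW'nd, e₂, he₂⟩ := hW'
  obtain ⟨ut, hutW, hutc, L, hLW, hLQ, hLut, hLdim⟩ := hc
  obtain ⟨ut', hutW', hutc', L', hLW', hLQ', hLut', hLdim'⟩ := hc'
  have hone : (1 : Matrix.GeneralLinearGroup (M d) F) ∈
      Cfsg.isometryGroup F (Cfsg.quadFormMinus (d - 1) F a b) := one_mem _
  have hstab : ∀ X : Submodule F (M d → F), Cfsg.Agent.Lib.Helper94.OMiPStmt.StabM
      ((1 : Matrix.GeneralLinearGroup (M d) F) : Matrix (M d) (M d) F) X := by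
    intro X
    change Submodule.map (Matrix.toLin'
      ((1 : Matrix.GeneralLinearGroup (M d) F) : Matrix (M d) (M d) F)) X ≤ X
    rintro _ ⟨x, hx, rfl⟩
    simpa using hx
  obtain ⟨U, hUp, -, hUnd, -, -, hUdim⟩ := hS F hodd d hd a b hab 1 hone W hWnd (hstab W)
  obtain ⟨U', hU'p, -, hU'nd, -, -, hU'dim⟩ := hS F hodd d hd a b hab 1 hone W' hW'nd (hstab W')
  have hsep : Cfsg.Agent.Lib.Helper44.QSpace.Sep
      (Cfsg.Agent.Lib.Helper44.NegPairs.minusQ (d - 1) F a b) :=
    Cfsg.Agent.Lib.Helper44.NegPairs.sep_minusQ h2 (d - 1) a b hab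
  have hWinf : W ⊓ LinearMap.BilinForm.orthogonal
      (QuadraticMap.polarBilin (Cfsg.Agent.Lib.Helper44.NegPairs.minusQ (d - 1) F a b)) W = ⊥ := by
    rw [eq_bot_iff]
    rintro x ⟨hx, hx'⟩
    rw [Submodule.mem_bot]
    by_contra hx0
    obtain ⟨⟨y, hy, hyx⟩, -⟩ := hWnd x hx hx0
    exact hyx ((LinearMap.BilinForm.mem_orthogonal_iff.mp hx') y hy)
  obtain ⟨g, hg, hgW⟩ := Cfsg.Agent.Lib.Helper44.WittND2.exists_O_map
    (Q := Cfsg.Agent.Lib.Helper44.NegPairs.minusQ (d - 1) F a b) hsep hWinf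
    (e₁.trans e₂.symm) (by
      intro x
      have h1 := he₂ (e₂.symm (e₁ x))
      rw [LinearEquiv.apply_symm_apply] at h1
      exact h1.symm.trans (he₁ x))
  have hgQ : ∀ v, Cfsg.quadFormMinus (d - 1) F a b (g v) = Cfsg.quadFormMinus (d - 1) F a b v :=
    fun v => hg v
  have hgP : ∀ x v, QuadraticMap.polar (Cfsg.quadFormMinus (d - 1) F a b) (g x) (g v) =
      QuadraticMap.polar (Cfsg.quadFormMinus (d - 1) F a b) x v := by
    intro x v
    simp only [QuadraticMap.polar, ← map_add, hgQ]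
  have hgU : ∀ v ∈ U, g v ∈ U' := by
    intro v hv
    refine (hU'p _).mpr ?_
    intro x' hx'
    rw [← hgW] at hx'
    obtain ⟨x, hx, rfl⟩ := hx'
    exact (hgP x v).trans ((hUp v).mp hv x hx)
  have a1 : Module.finrank F ↥W = m := hWm
  have a2 : Module.finrank F ↥W' = m := hW'm
  have a3 : Module.finrank F ↥W + Module.finrank F ↥U = 2 * d := hUdim
  have a4 : Module.finrank F ↥W' + Module.finrank F ↥U' = 2 * d := hU'dim
  have a5 : 2 * Module.finrank F ↥L + 1 = 2 * d - Module.finrank F ↥W := hLdim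
  have a6 : 2 * Module.finrank F ↥L' + 1 = 2 * d - Module.finrank F ↥W' := hLdim'
  have d1 : 2 * Module.finrank F ↥L + 1 = Module.finrank F ↥U' := by omega
  have d2 : 2 * Module.finrank F ↥L' + 1 = Module.finrank F ↥U' := by omega
  have hT : TypeM d a b c U' := by
    refine ⟨L.map (g : (M d → F) →ₗ[F] (M d → F)), ?_, ?_, ?_, g ut, ?_, ?_, ?_⟩
    · rintro _ ⟨v, hv, rfl⟩
      apply hgU
      refine (hUp _).mpr ?_
      intro x hx
      rw [QuadraticMap.polar_comm]
      exact hLW v hv x hx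
    · rintro _ ⟨v, hv, rfl⟩
      exact (hgQ v).trans (hLQ v hv)
    · have h1 : Module.finrank F ↥(L.map (g : (M d → F) →ₗ[F] (M d → F))) =
          Module.finrank F ↥L := LinearEquiv.finrank_map_eq g L
      rw [h1]
      exact d1
    · apply hgU
      refine (hUp _).mpr ?_
      intro x hx
      rw [QuadraticMap.polar_comm]
      exact hutW x hx
    · rintro _ ⟨v, hv, rfl⟩
      exact (hgP v ut).trans (hLut v hv)
    · exact (hgQ ut).trans hutc
  have hT' : TypeM d a b c' U' := by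
    refine ⟨L', ?_, hLQ', ?_, ut', ?_, hLut', hutc'⟩
    · intro v hv
      refine (hU'p _).mpr ?_
      intro x hx
      rw [QuadraticMap.polar_comm]
      exact hLW' v hv x hx
    · exact d2
    · refine (hU'p _).mpr ?_
      intro x hx
      rw [QuadraticMap.polar_comm]
      exact hutW' x hx
  obtain ⟨e, he⟩ := hU F hodd d hd a b hab U' hU'nd c c' hc0 hT hT'
  exact ⟨e * c', by rw [he]; ring⟩

end Cfsg.Agent.Lib.Helper36.OMiCLS2ALT
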