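import Mathlib
import Cfsg.Agent.Lib.Helper46.PUStmt

set_option autoImplicit false

/-!
# S2263 / EXODDA: the field with `q ^ (2 k)` elements as a hermitian space

`L` of degree `k` over `F`, `b` an `F`-basis, `σ u = u ^ (q ^ k)`, `ζ ∈ L` of order
`q ^ k + 1`, `A = Algebra.leftMulMatrix b ζ`, `x i j = Algebra.trace F L (σ (b i) * b j)`.
-/

namespace Cfsg.Agent.Lib.Helper36.PUEXODDA

open Matrix
open Cfsg.Agent.Lib.Helper40.HermAdj

universe u v

section core
variable {F : Type u} [Field F] {L : Type v} [Field L] [Algebra F L] [FiniteDimensional F L]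
  {k : ℕ} (b : Module.Basis (Fin k) F L) (φ : F →+* F) (σ : L →+* L)
  (hσ : ∀ a : F, σ (algebraMap F L a) = algebraMap F L (φ a))

include hσ in
theorem tr_left (u w : L) :
    ∑ m, φ (b.repr u m) * Algebra.trace F L (σ (b m) * w) = Algebra.trace F L (σ u * w) := by
  conv_rhs => rw [← b.sum_repr u]
  rw [map_sum, Finset.sum_mul, map_sum]
  refine Finset.sum_congr rfl fun m _ => ?_
  rw [Algebra.smul_def, map_mul σ, hσ, mul_assoc, ← Algebra.smul_def, map_smul, smul_eq_mul]

theorem tr_right (w v : L) :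
    ∑ l, Algebra.trace F L (w * b l) * b.repr v l = Algebra.trace F L (w * v) := by
  conv_rhs => rw [← b.sum_repr v]
  rw [Finset.mul_sum, map_sum]
  refine Finset.sum_congr rfl fun l _ => ?_
  rw [mul_smul_comm, map_smul, smul_eq_mul, mul_comm]

/-- the twisted trace form matrix -/
noncomputable def xmat : Matrix (Fin k) (Fin k) F :=
  Matrix.of fun i j => Algebra.trace F L (σ (b i) * b j)

include hσ in
theorem core (ζ : L) (hζ : σ ζ * ζ = 1) :
    adj φ (Algebra.leftMulMatrix b ζ) * xmat b σ * Algebra.leftMulMatrix b ζ = xmat b σ := by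
  ext i j
  simp only [Matrix.mul_apply, adj_apply, Algebra.leftMulMatrix_eq_repr_mul, xmat,
    Matrix.of_apply]
  simp only [tr_left b φ σ hσ]
  rw [tr_right, map_mul σ]
  have h : σ ζ * σ (b i) * (ζ * b j) = (σ ζ * ζ) * (σ (b i) * b j) := by ring
  rw [h, hζ, one_mul]

include hσ in
theorem isUnit_xmat [Algebra.IsSeparable F L] (hsurj : Function.Surjective σ) :
    IsUnit (xmat b σ) := by
  classical
  rw [Matrix.isUnit_iff_isUnit_det, isUnit_iff_ne_zero]
  intro hdet
  obtain ⟨v, hv, hv0⟩ := Matrix.exists_mulVec_eq_zero_iff.mpr hdet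
  apply hv
  have hrepr : ∀ l, b.repr (∑ j, v j • b j) l = v l := by
    intro l
    rw [b.repr_sum_self]
  have h1 : ∀ i, Algebra.trace F L (σ (b i) * ∑ j, v j • b j) = 0 := by
    intro i
    have h := congrFun hv0 i
    rw [Matrix.mulVec, dotProduct] at h
    simp only [xmat, Matrix.of_apply, Pi.zero_apply] at h
    rw [← tr_right b (σ (b i)) (∑ j, v j • b j), ← h]
    refine Finset.sum_congr rfl fun l _ => ?_
    rw [hrepr]
  have h2 : ∀ u, Algebra.trace F L (σ u * ∑ j, v j • b j) = 0 := by
    intro u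
    rw [← tr_left b φ σ hσ]
    simp [h1]
  have h3 : ∀ u, Algebra.trace F L ((∑ j, v j • b j) * u) = 0 := by
    intro u
    obtain ⟨u', rfl⟩ := hsurj u
    rw [mul_comm]
    exact h2 u'
  have h4 : (∑ j, v j • b j) = 0 := by
    have hnd := traceForm_nondegenerate F L
    exact hnd.1 _ h3
  ext j
  rw [← hrepr j, h4]
  simp

end core

theorem main : Cfsg.Agent.Lib.Helper46.PUStmt.ExOddA.{u} := by
  intro F _ _ q k φ hF hφ hk
  classical
  obtain ⟨p, hp⟩ := CharP.exists F
  haveI hpp : Fact p.Prime := ⟨CharP.char_is_prime F p⟩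
  obtain ⟨m, -, hm⟩ := FiniteField.card F p
  have hdvd : q ∣ p ^ (m : ℕ) := by
    rw [← hm, hF]
    exact dvd_pow_self q (by norm_num)
  obtain ⟨e, -, he⟩ := (Nat.dvd_prime_pow hpp.out).mp hdvd
  have hq2 : 2 ≤ q := by
    by_contra h
    have h1 : q ≤ 1 := by omega
    have h2 : q ^ 2 ≤ 1 := by nlinarith
    have h3 : 1 < Fintype.card F := Fintype.one_lt_card
    omega
  have hk0 : k ≠ 0 := by
    rcases hk with ⟨t, rfl⟩
    omega
  haveI : NeZero k := ⟨hk0⟩
  have hfin : Module.finrank F (FiniteField.Extension F p k) = k :=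
    FiniteField.finrank_extension F p k
  have hcard : Nat.card (FiniteField.Extension F p k) = Nat.card F ^ k :=
    FiniteField.natCard_extension F p k
  have hcardF : Nat.card F = q ^ 2 := by rw [Nat.card_eq_fintype_card, hF]
  have hQ1 : 2 ≤ q ^ k := by
    calc 2 ≤ q := hq2
      _ = q ^ 1 := (pow_one q).symm
      _ ≤ q ^ k := Nat.pow_le_pow_right (by omega) (by omega)
  haveI : Finite (FiniteField.Extension F p k) := by
    apply Nat.finite_of_card_ne_zero
    rw [hcard, hcardF]
    positivity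
  haveI : CharP (FiniteField.Extension F p k) p :=
    charP_of_injective_algebraMap (algebraMap F (FiniteField.Extension F p k)).injective p
  -- the generator
  obtain ⟨g, hg⟩ := IsCyclic.exists_ofOrder_eq_natCard (α := (FiniteField.Extension F p k)ˣ)
  have hgord : orderOf g = (q ^ k - 1) * (q ^ k + 1) := by
    rw [hg, Nat.card_units, hcard, hcardF, ← pow_mul, mul_comm 2 k, pow_mul]
    obtain ⟨r, hr⟩ : ∃ r, q ^ k = r + 1 := ⟨q ^ k - 1, by omega⟩
    rw [hr, Nat.add_sub_cancel]
    have : (r + 1) ^ 2 = r * (r + 1 + 1) + 1 := by ring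
    rw [this, Nat.add_sub_cancel]
  have hζord : orderOf (((g ^ (q ^ k - 1) : (FiniteField.Extension F p k)ˣ) :
      FiniteField.Extension F p k)) = q ^ k + 1 := by
    rw [orderOf_units, orderOf_pow_of_dvd (by omega) (by rw [hgord]; exact dvd_mul_right _ _),
      hgord, Nat.mul_div_cancel_left _ (by omega)]
  set ζ : FiniteField.Extension F p k :=
    ((g ^ (q ^ k - 1) : (FiniteField.Extension F p k)ˣ) : FiniteField.Extension F p k) with hζdef
  have hζu : IsUnit ζ := Units.isUnit _
  -- σ
  have hσ1 : ∀ u : FiniteField.Extension F p k,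
      iterateFrobenius (FiniteField.Extension F p k) p (e * k) u = u ^ (q ^ k) := fun u => by
    rw [iterateFrobenius_def, pow_mul, ← he]
  have hσ : ∀ a : F, iterateFrobenius (FiniteField.Extension F p k) p (e * k)
      (algebraMap F (FiniteField.Extension F p k) a) =
      algebraMap F (FiniteField.Extension F p k) (φ a) := by
    intro a
    rw [hσ1, ← map_pow, hφ]
    congr 1
    obtain ⟨t, rfl⟩ := hk
    rw [show q ^ (2 * t + 1) = (q ^ 2) ^ t * q by ring, pow_mul, ← hF, FiniteField.pow_card_pow]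
  have hσζ : iterateFrobenius (FiniteField.Extension F p k) p (e * k) ζ * ζ = 1 := by
    rw [hσ1, ← pow_succ, ← hζord, pow_orderOf_eq_one]
  have hsurj : Function.Surjective (iterateFrobenius (FiniteField.Extension F p k) p (e * k)) :=
    Finite.surjective_of_injective (RingHom.injective _)
  -- assemble
  refine ⟨Algebra.leftMulMatrix (Module.finBasisOfFinrankEq F _ hfin) ζ,
    xmat (Module.finBasisOfFinrankEq F _ hfin)
      (iterateFrobenius (FiniteField.Extension F p k) p (e * k)), ?_, ?_, ?_, ?_⟩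
  · exact hζu.map (Algebra.leftMulMatrix (Module.finBasisOfFinrankEq F _ hfin))
  · exact isUnit_xmat _ φ _ hσ hsurj
  · exact core _ φ _ hσ ζ hσζ
  · intro j
    rw [← map_pow, ← map_one (Algebra.leftMulMatrix (Module.finBasisOfFinrankEq F _ hfin)),
      (Algebra.leftMulMatrix_injective (Module.finBasisOfFinrankEq F _ hfin)).eq_iff,
      ← hζord, orderOf_dvd_iff_pow_eq_one]

end Cfsg.Agent.Lib.Helper36.PUEXODDA
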