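import Mathlib
import Cfsg.Agent.Lib.Helper22.S56Stmt

/-!
# S1356 / F2EQ (call by helper22): `F(M) = C_M(M_F) M_F` from the nilpotency of `C_M(M_F)`.
-/

set_option autoImplicit false

namespace Cfsg.Agent.Lib.Helper36.S56F2EQ

universe u

open Cfsg Cfsg.Agent.Lib.Helper22.S56Stmt

theorem main (hF : FLe2.{u}) : F2Eq.{u} := by
  intro G _ _ M hnil
  have h1 : Cfsg.fittingSubgroup ↥M ≤
      Subgroup.centralizer ((Cfsg.fittingHall ↥M : Subgroup ↥M) : Set ↥M) ⊔ Cfsg.fittingHall ↥M :=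
    hF (X := ↥M)
  have hCn : (Subgroup.centralizer ((Cfsg.fittingHall ↥M : Subgroup ↥M) : Set ↥M)).Normal :=
    Subgroup.normal_centralizer
  have h2 : Subgroup.centralizer ((Cfsg.fittingHall ↥M : Subgroup ↥M) : Set ↥M) ≤
      Cfsg.fittingSubgroup ↥M := by
    unfold Cfsg.fittingSubgroup
    exact le_sSup ⟨hCn, hnil⟩
  have h3 : Cfsg.fittingHall ↥M ≤ Cfsg.fittingSubgroup ↥M := by
    unfold Cfsg.fittingHall Cfsg.fittingSubgroup
    apply sSup_le_sSup
    intro N hN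
    exact ⟨hN.1, hN.2.1⟩
  have h4 : Cfsg.fittingSubgroup ↥M =
      Subgroup.centralizer ((Cfsg.fittingHall ↥M : Subgroup ↥M) : Set ↥M) ⊔ Cfsg.fittingHall ↥M :=
    le_antisymm h1 (sup_le h2 h3)
  have h5 : (Subgroup.centralizer ((Cfsg.fittingHall ↥M : Subgroup ↥M) : Set ↥M)).map M.subtype
      = M ⊓ Subgroup.centralizer (Cfsg.fittingHallOf M : Set G) := by
    ext x
    constructor
    · rintro ⟨y, hy, rfl⟩
      refine Subgroup.mem_inf.mpr ⟨y.2, ?_⟩
      rw [Subgroup.mem_centralizer_iff]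
      intro g hg
      obtain ⟨h, hh, rfl⟩ := hg
      have := (Subgroup.mem_centralizer_iff.mp hy) h hh
      have h6 := congrArg (Subtype.val) this
      simpa using h6
    · intro hx
      obtain ⟨hxM, hxC⟩ := Subgroup.mem_inf.mp hx
      refine ⟨⟨x, hxM⟩, Subgroup.mem_centralizer_iff.mpr ?_, rfl⟩
      intro h hh
      apply Subtype.ext
      have := (Subgroup.mem_centralizer_iff.mp hxC) (h : G) ⟨h, hh, rfl⟩
      simpa using this
  unfold Cfsg.fittingOf
  rw [h4, Subgroup.map_sup, h5]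
  rfl

end Cfsg.Agent.Lib.Helper36.S56F2EQ
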