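import Mathlib
import Cfsg.Agent.Lib.Helper54.S72Stmt

/-!
# S1372 / OMEGA (helper36): `Ω₁(Z(T))` for a `t`-subgroup `T` and an element `x ∈ T` of order `t`
not central in `T`.
-/

set_option autoImplicit false

namespace Cfsg.Agent.Lib.Helper36.S72OMEGA

universe u

/-- `Ω₁(Z(T))` as a subgroup of `G`: the elements of `T` that centralize `T` and have `t`-th
power `1`. -/
def omegaZ {G : Type u} [Group G] (t : ℕ) (T : Subgroup G) : Subgroup G where
  carrier := {z | z ∈ T ∧ (∀ y ∈ T, z * y = y * z) ∧ z ^ t = 1}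
  one_mem' := ⟨one_mem T, fun y _ => by rw [one_mul, mul_one], one_pow t⟩
  mul_mem' := by
    rintro a b ⟨haT, hac, hat⟩ ⟨hbT, hbc, hbt⟩
    refine ⟨mul_mem haT hbT, fun y hy => ?_, ?_⟩
    · rw [mul_assoc, hbc y hy, ← mul_assoc, hac y hy, mul_assoc]
    · have hcomm : Commute a b := hac b hbT
      rw [hcomm.mul_pow, hat, hbt, one_mul]
  inv_mem' := by
    rintro a ⟨haT, hac, hat⟩
    refine ⟨inv_mem haT, fun y hy => ?_, by rw [inv_pow, hat, inv_one]⟩
    have h := hac y hy
    calc a⁻¹ * y = a⁻¹ * (y * a) * a⁻¹ := by group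
      _ = a⁻¹ * (a * y) * a⁻¹ := by rw [h]
      _ = y * a⁻¹ := by group

theorem main : Cfsg.Agent.Lib.Helper54.S72Stmt.Omega.{u} := by
  intro G _ _ t ht T hT x hxT hxo hnc
  haveI : Fact t.Prime := ⟨ht⟩
  have hx1 : x ≠ 1 := by
    intro h
    rw [h, orderOf_one] at hxo
    exact ht.ne_one hxo.symm
  have hxt : x ^ t = 1 := by rw [← hxo]; exact pow_orderOf_eq_one x
  have hVT : omegaZ t T ≤ T := fun z hz => hz.1
  have hVne : omegaZ t T ≠ ⊥ := by
    haveI : Nontrivial ↥T := ⟨⟨⟨x, hxT⟩, 1, fun h => hx1 (congrArg Subtype.val h)⟩⟩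
    have hTp : IsPGroup t ↥T := hT
    haveI hcn : Nontrivial ↥(Subgroup.center ↥T) := hTp.center_nontrivial
    have hcp : IsPGroup t ↥(Subgroup.center ↥T) := hTp.to_subgroup _
    have hdvd : t ∣ Nat.card ↥(Subgroup.center ↥T) := by
      obtain ⟨n, hn⟩ := IsPGroup.iff_card.mp hcp
      have hn0 : n ≠ 0 := by
        rintro rfl
        rw [pow_zero] at hn
        have h1 : Nat.card ↥(Subgroup.center ↥T) ≠ 1 := by
          have := Finite.one_lt_card (α := ↥(Subgroup.center ↥T))
          omega
        exact h1 hn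
      rw [hn]
      exact dvd_pow_self t hn0
    obtain ⟨z, hz⟩ := exists_prime_orderOf_dvd_card' t hdvd
    intro hbot
    have hzV : ((z : ↥T) : G) ∈ omegaZ t T := by
      refine ⟨z.1.2, fun y hy => ?_, ?_⟩
      · have h1 := Subgroup.mem_center_iff.mp z.2 ⟨y, hy⟩
        exact (congrArg Subtype.val h1).symm
      · have h1 : z ^ t = 1 := by rw [← hz]; exact pow_orderOf_eq_one z
        have h2 := congrArg (fun w : ↥(Subgroup.center ↥T) => ((w : ↥T) : G)) h1
        simpa using h2
    rw [hbot, Subgroup.mem_bot] at hzV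
    have hz1 : z = 1 := Subtype.ext (Subtype.ext hzV)
    rw [hz1, orderOf_one] at hz
    exact ht.ne_one hz.symm
  have key : ∀ g : G, g ∈ Subgroup.normalizer (T : Set G) → ∀ z ∈ omegaZ t T,
      g * z * g⁻¹ ∈ omegaZ t T := by
    intro g hg z hz
    have hgT : ∀ h, h ∈ T ↔ g * h * g⁻¹ ∈ T := fun h => Subgroup.mem_normalizer_iff.mp hg h
    refine ⟨(hgT z).mp hz.1, fun y hy => ?_, ?_⟩
    · have hy' : g⁻¹ * y * g ∈ T := by
        rw [hgT]
        have h0 : g * (g⁻¹ * y * g) * g⁻¹ = y := by group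
        rw [h0]
        exact hy
      have h1 := hz.2.1 _ hy'
      calc g * z * g⁻¹ * y = g * (z * (g⁻¹ * y * g)) * g⁻¹ := by group
        _ = g * ((g⁻¹ * y * g) * z) * g⁻¹ := by rw [h1]
        _ = y * (g * z * g⁻¹) := by group
    · rw [conj_pow, hz.2.2, mul_one, mul_inv_cancel]
  have hnorm : ∀ g : G, g ∈ Subgroup.normalizer (T : Set G) →
      g ∈ Subgroup.normalizer ((omegaZ t T : Subgroup G) : Set G) := by
    intro g hg
    rw [Subgroup.mem_normalizer_iff]
    intro z
    constructor
    · exact key g hg z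
    · intro hz
      have h1 := key g⁻¹ (inv_mem hg) _ hz
      have h0 : g⁻¹ * (g * z * g⁻¹) * g⁻¹⁻¹ = z := by group
      rw [h0] at h1
      exact h1
  refine ⟨omegaZ t T, hVT, hVne, hnorm, ?_⟩
  have hVp : IsPGroup t ↥(omegaZ t T) := hT.to_le hVT
  obtain ⟨n, hn⟩ := IsPGroup.iff_card.mp hVp
  by_cases hn1 : n ≤ 1
  · left
    have hn0 : n ≠ 0 := by
      rintro rfl
      rw [pow_zero] at hn
      exact hVne ((Subgroup.card_eq_one).mp hn)
    have hn' : n = 1 := by omega
    rw [hn, hn', pow_one]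
    exact ht
  · right
    have hn2 : 2 ≤ n := by omega
    have hkcomm : ∀ a ∈ ((omegaZ t T : Subgroup G) : Set G) ∪ {x},
        ∀ b ∈ ((omegaZ t T : Subgroup G) : Set G) ∪ {x}, a * b = b * a := by
      rintro a (ha | ha) b (hb | hb)
      · exact ha.2.1 b hb.1
      · rw [Set.mem_singleton_iff] at hb
        rw [hb]
        exact ha.2.1 x hxT
      · rw [Set.mem_singleton_iff] at ha
        rw [ha]
        exact (hb.2.1 x hxT).symm
      · rw [Set.mem_singleton_iff] at ha hb
        rw [ha, hb]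
    have h1 : ∀ e ∈ Subgroup.closure (((omegaZ t T : Subgroup G) : Set G) ∪ {x}),
        ∀ b ∈ ((omegaZ t T : Subgroup G) : Set G) ∪ {x}, e * b = b * e := by
      intro e he b hb
      have hle : Subgroup.closure (((omegaZ t T : Subgroup G) : Set G) ∪ {x}) ≤
          Subgroup.centralizer (((omegaZ t T : Subgroup G) : Set G) ∪ {x}) :=
        (Subgroup.closure_le _).mpr (fun a ha => Subgroup.mem_centralizer_iff.mpr
          (fun c hc => hkcomm c hc a ha))
      exact (Subgroup.mem_centralizer_iff.mp (hle he) b hb).symm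
    have h2 : ∀ e ∈ Subgroup.closure (((omegaZ t T : Subgroup G) : Set G) ∪ {x}),
        ∀ f ∈ Subgroup.closure (((omegaZ t T : Subgroup G) : Set G) ∪ {x}), e * f = f * e := by
      intro e he f hf
      have hle : Subgroup.closure (((omegaZ t T : Subgroup G) : Set G) ∪ {x}) ≤
          Subgroup.centralizer
            ((Subgroup.closure (((omegaZ t T : Subgroup G) : Set G) ∪ {x}) : Subgroup G) : Set G) :=
        (Subgroup.closure_le _).mpr (fun a ha => Subgroup.mem_centralizer_iff.mpr
          (fun c hc => h1 c hc a ha))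
      exact (Subgroup.mem_centralizer_iff.mp (hle he) f hf).symm
    have h3 : ∀ e ∈ Subgroup.closure (((omegaZ t T : Subgroup G) : Set G) ∪ {x}), e ^ t = 1 := by
      intro e he
      induction he using Subgroup.closure_induction with
      | mem a ha =>
        rcases ha with ha | ha
        · exact ha.2.2
        · rw [Set.mem_singleton_iff] at ha
          rw [ha]
          exact hxt
      | one => exact one_pow t
      | mul a b ha hb iha ihb =>
        have hc : Commute a b := h2 a ha b hb
        rw [hc.mul_pow, iha, ihb, one_mul]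
      | inv a ha iha => rw [inv_pow, iha, inv_one]
    refine ⟨Subgroup.closure (((omegaZ t T : Subgroup G) : Set G) ∪ {x}), ?_,
      ⟨⟨⟨fun a b => Subtype.ext (h2 a.1 a.2 b.1 b.2)⟩⟩, h3⟩, ?_⟩
    · intro e he
      rw [Subgroup.mem_centralizer_iff]
      intro h hh
      rw [Set.mem_singleton_iff] at hh
      rw [hh]
      exact (h1 e he x (Or.inr rfl)).symm
    · by_contra hlt
      have hle : Nat.card ↥(Subgroup.closure (((omegaZ t T : Subgroup G) : Set G) ∪ {x})) ≤ t ^ 2 :=
        not_lt.mp hlt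
      have hVE : omegaZ t T ≤ Subgroup.closure (((omegaZ t T : Subgroup G) : Set G) ∪ {x}) :=
        fun z hz => Subgroup.subset_closure (Or.inl hz)
      have hcard : Nat.card ↥(Subgroup.closure (((omegaZ t T : Subgroup G) : Set G) ∪ {x})) ≤
          Nat.card ↥(omegaZ t T) := by
        rw [hn]
        exact hle.trans (Nat.pow_le_pow_right ht.pos hn2)
      have heq : omegaZ t T = Subgroup.closure (((omegaZ t T : Subgroup G) : Set G) ∪ {x}) :=
        Subgroup.eq_of_le_of_card_ge hVE hcard
      have hxV : x ∈ omegaZ t T := by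
        rw [heq]
        exact Subgroup.subset_closure (Or.inr rfl)
      apply hnc
      intro y hy
      rw [Subgroup.mem_centralizer_iff]
      intro h hh
      rw [Set.mem_singleton_iff] at hh
      rw [hh]
      exact hxV.2.1 y hy

end Cfsg.Agent.Lib.Helper36.S72OMEGA
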