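import Mathlib
import Cfsg.Agent.Lib.Helper14.TC3Stmt
import Cfsg.Agent.H32.PGroup

/-!
S4460, piece CHIEFP (pure group theory): if `A ≤ L < K ≤ H` with `[G : A]` a power of `p`, `H`
normalizing `K` and `L`, and no `H`-invariant subgroup strictly between `L` and `K`, then
`[K : L] = p`; in particular it is not a square.
-/

set_option autoImplicit false

universe u

namespace Cfsg.Agent.Lib.Helper36.TC3CHIEFP

/-- a chief factor `K/L` of a group `H` with `H/L` a `p`-group has order `p` -/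
theorem core {H : Type u} [Group H] [Finite H] (p : ℕ) [Fact p.Prime] (L K : Subgroup H)
    [L.Normal] [K.Normal] (hLK : L < K) (hp : ∃ j, L.index = p ^ j)
    (hmin : ∀ M : Subgroup H, M.Normal → L ≤ M → M ≤ K → M = L ∨ M = K) :
    L.relIndex K = p := by
  classical
  have hπ : Function.Surjective (QuotientGroup.mk' L) := QuotientGroup.mk'_surjective L
  have hQ : IsPGroup p (H ⧸ L) := by
    obtain ⟨j, hj⟩ := hp
    exact IsPGroup.of_card (n := j) (by rw [← hj]; rfl)
  haveI hKQn : (K.map (QuotientGroup.mk' L)).Normal :=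
    Subgroup.Normal.map inferInstance (QuotientGroup.mk' L) hπ
  have hKQ : K.map (QuotientGroup.mk' L) ≠ ⊥ := by
    obtain ⟨k, hkK, hkL⟩ := SetLike.exists_of_lt hLK
    intro h
    have h1 : QuotientGroup.mk' L k ∈ K.map (QuotientGroup.mk' L) :=
      Subgroup.mem_map_of_mem (QuotientGroup.mk' L) hkK
    rw [h, Subgroup.mem_bot] at h1
    exact hkL ((QuotientGroup.eq_one_iff k).mp h1)
  have hC : K.map (QuotientGroup.mk' L) ⊓ Subgroup.center (H ⧸ L) ≠ ⊥ := by
    obtain ⟨x, hx, hx1, hxc⟩ := Cfsg.Agent.H32.exists_mem_center_of_normal hQ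
      (K.map (QuotientGroup.mk' L)) hKQ
    intro h
    have h1 : x ∈ K.map (QuotientGroup.mk' L) ⊓ Subgroup.center (H ⧸ L) := ⟨hx, hxc⟩
    rw [h, Subgroup.mem_bot] at h1
    exact hx1 h1
  have hCp : IsPGroup p ↥(K.map (QuotientGroup.mk' L) ⊓ Subgroup.center (H ⧸ L)) :=
    hQ.to_subgroup _
  have hdvd : p ∣ Nat.card ↥(K.map (QuotientGroup.mk' L) ⊓ Subgroup.center (H ⧸ L)) := by
    rcases hCp.card_eq_or_dvd with h | h
    · exact absurd (Subgroup.card_eq_one.mp h) hC
    · exact h
  obtain ⟨w', hw'⟩ := exists_prime_orderOf_dvd_card' p hdvd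
  obtain ⟨w, hwo, hwK, hwc⟩ : ∃ w : H ⧸ L, orderOf w = p ∧ w ∈ K.map (QuotientGroup.mk' L) ∧
      w ∈ Subgroup.center (H ⧸ L) :=
    ⟨(w' : H ⧸ L), by rw [Subgroup.orderOf_coe]; exact hw', w'.2.1, w'.2.2⟩
  have hZc : Subgroup.zpowers w ≤ Subgroup.center (H ⧸ L) := Subgroup.zpowers_le.mpr hwc
  have hZK : Subgroup.zpowers w ≤ K.map (QuotientGroup.mk' L) := Subgroup.zpowers_le.mpr hwK
  haveI hZn : (Subgroup.zpowers w).Normal := ⟨fun n hn g => by
    have h1 := Subgroup.mem_center_iff.mp (hZc hn) g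
    rw [h1, mul_inv_cancel_right]
    exact hn⟩
  have hMn : ((Subgroup.zpowers w).comap (QuotientGroup.mk' L)).Normal :=
    Subgroup.Normal.comap hZn (QuotientGroup.mk' L)
  have hLM : L ≤ (Subgroup.zpowers w).comap (QuotientGroup.mk' L) := by
    intro l hl
    show QuotientGroup.mk' L l ∈ Subgroup.zpowers w
    have h1 : QuotientGroup.mk' L l = 1 := (QuotientGroup.eq_one_iff l).mpr hl
    rw [h1]
    exact one_mem _
  have hMK : (Subgroup.zpowers w).comap (QuotientGroup.mk' L) ≤ K := by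
    have h1 : (Subgroup.zpowers w).comap (QuotientGroup.mk' L) ≤
        (K.map (QuotientGroup.mk' L)).comap (QuotientGroup.mk' L) := Subgroup.comap_mono hZK
    have h2 : (K.map (QuotientGroup.mk' L)).comap (QuotientGroup.mk' L) = K := by
      rw [Subgroup.comap_map_eq, QuotientGroup.ker_mk', sup_eq_left.mpr hLK.le]
    rw [h2] at h1
    exact h1
  have hML : (Subgroup.zpowers w).comap (QuotientGroup.mk' L) ≠ L := by
    intro h
    obtain ⟨k, hk⟩ := hπ w
    have hkM : k ∈ (Subgroup.zpowers w).comap (QuotientGroup.mk' L) := by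
      show QuotientGroup.mk' L k ∈ Subgroup.zpowers w
      rw [hk]
      exact Subgroup.mem_zpowers w
    rw [h] at hkM
    have h1 : w = 1 := by
      rw [← hk]
      exact (QuotientGroup.eq_one_iff k).mpr hkM
    rw [h1, orderOf_one] at hwo
    exact (Fact.out : p.Prime).one_lt.ne hwo
  have hMeq : (Subgroup.zpowers w).comap (QuotientGroup.mk' L) = K :=
    (hmin _ hMn hLM hMK).resolve_left hML
  have hL : (⊥ : Subgroup (H ⧸ L)).comap (QuotientGroup.mk' L) = L := by
    rw [MonoidHom.comap_bot, QuotientGroup.ker_mk']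
  calc L.relIndex K
      = ((⊥ : Subgroup (H ⧸ L)).comap (QuotientGroup.mk' L)).relIndex
          ((Subgroup.zpowers w).comap (QuotientGroup.mk' L)) := by rw [hL, hMeq]
    _ = (⊥ : Subgroup (H ⧸ L)).relIndex
          (((Subgroup.zpowers w).comap (QuotientGroup.mk' L)).map (QuotientGroup.mk' L)) :=
        Subgroup.relIndex_comap _ _ _
    _ = (⊥ : Subgroup (H ⧸ L)).relIndex (Subgroup.zpowers w) := by
        rw [Subgroup.map_comap_eq_self_of_surjective hπ]
    _ = Nat.card (Subgroup.zpowers w) := Subgroup.relIndex_bot_left _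
    _ = p := by rw [Nat.card_zpowers, hwo]

/-- **S4460, piece CHIEFP** -/
theorem main : Cfsg.Agent.Lib.Helper14.TC3Stmt.ChiefP.{u} := by
  intro G _ _ A p hA hp hk H K L hAL hLK hKH hHK hHL hmin
  obtain ⟨k, hk⟩ := hk
  haveI : Fact p.Prime := ⟨hp⟩
  have hLH : L ≤ H := hLK.le.trans hKH
  haveI hLn : (L.subgroupOf H).Normal := ⟨fun n hn g => by
    rw [Subgroup.mem_subgroupOf] at hn ⊢
    simpa using hHL g g.2 n hn⟩
  haveI hKn : (K.subgroupOf H).Normal := ⟨fun n hn g => by
    rw [Subgroup.mem_subgroupOf] at hn ⊢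
    simpa using hHK g g.2 n hn⟩
  have hlt : L.subgroupOf H < K.subgroupOf H := by
    rw [lt_iff_le_and_ne]
    refine ⟨Subgroup.comap_mono hLK.le, fun h => ?_⟩
    apply not_le_of_gt hLK
    intro x hx
    have h1 : (⟨x, hKH hx⟩ : H) ∈ K.subgroupOf H := by
      rw [Subgroup.mem_subgroupOf]
      exact hx
    rw [← h, Subgroup.mem_subgroupOf] at h1
    exact h1
  have hidx : ∃ j, (L.subgroupOf H).index = p ^ j := by
    have h1 : L.relIndex H ∣ A.index := by
      have h2 : A.relIndex L * L.relIndex H = A.relIndex H :=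
        Subgroup.relIndex_mul_relIndex A L H hAL hLH
      have h3 : A.relIndex H ∣ A.index := Subgroup.relIndex_dvd_index_of_normal A H
      exact (Dvd.intro_left _ h2).trans h3
    rw [hk] at h1
    obtain ⟨j, -, hj⟩ := (Nat.dvd_prime_pow hp).mp h1
    exact ⟨j, hj⟩
  have key := core p (L.subgroupOf H) (K.subgroupOf H) hlt hidx (by
    intro M hMn hLM hMK
    have hback : (M.map H.subtype).subgroupOf H = M :=
      Subgroup.comap_map_eq_self_of_injective (Subgroup.subtype_injective H) M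
    have h := hmin (M.map H.subtype)
      (by
        intro l hl
        exact ⟨⟨l, hLH hl⟩, hLM (by rw [Subgroup.mem_subgroupOf]; exact hl), rfl⟩)
      (by
        rintro _ ⟨m, hm, rfl⟩
        have := hMK hm
        rw [Subgroup.mem_subgroupOf] at this
        exact this)
      (by
        rintro h hh _ ⟨m, hm, rfl⟩
        exact ⟨⟨h, hh⟩ * m * ⟨h, hh⟩⁻¹, hMn.conj_mem m hm ⟨h, hh⟩, rfl⟩)
    rcases h with h | h
    · left
      rw [← hback, h]
    · right
      rw [← hback, h])
  rw [Subgroup.relIndex_subgroupOf hKH] at key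
  rw [key]
  exact hp.not_isSquare

end Cfsg.Agent.Lib.Helper36.TC3CHIEFP
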